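import Groth.Agent.Lib.VarDim.Scheme
import Groth.Agent.Lib.GrpdB.Calc
import Groth.Agent.Lib.H12.DimZero
import Mathlib.AlgebraicGeometry.Morphisms.Finite
import Mathlib.RingTheory.Spectrum.Prime.Chevalley
import Mathlib.AlgebraicGeometry.EffectiveEpi
import Mathlib.FieldTheory.IsAlgClosed.AlgebraicClosure
import Mathlib.FieldTheory.AlgebraicClosure
import Mathlib.RingTheory.Flat.TorsionFree

/-! # Dimension of a groupoid scheme over a field. -/

set_option autoImplicit false
set_option maxHeartbeats 4000000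
set_option linter.style.haveILetI false
universe u

open CategoryTheory CategoryTheory.Limits AlgebraicGeometry Polynomial

namespace Groth.Agent.GrpdDim19

section Alg

variable {K : Type u} [Field K] {A : Type u} [CommRing A] [IsDomain A] [Algebra K A]
  [Algebra.FiniteType K A] {F : Type u} [Field F]

/-- The image of a field in a finitely generated domain over `K` consists of algebraic elements. -/
theorem isAlgebraic_of_field (φ : F →+* A) (a : F) : IsAlgebraic K (φ a) := by
  by_contra htr
  have hinj : Function.Injective (aeval (φ a) : K[X] →ₐ[K] A) :=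
    transcendental_iff_injective.mp htr
  letI : Algebra K[X] A := (aeval (φ a) : K[X] →ₐ[K] A).toRingHom.toAlgebra
  haveI : IsScalarTower K K[X] A := IsScalarTower.of_algHom _
  haveI : FaithfulSMul K[X] A := (faithfulSMul_iff_algebraMap_injective _ _).mpr hinj
  haveI : Algebra.FiniteType K[X] A := Algebra.FiniteType.of_restrictScalars_finiteType K _ _
  haveI : Algebra.FinitePresentation K[X] A := Algebra.FinitePresentation.of_finiteType.mp ‹_›
  haveI : Module.IsTorsionFree K[X] A := inferInstance
  haveI : Module.Flat K[X] A := inferInstance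
  have hopen := (PrimeSpectrum.isOpenMap_comap_of_hasGoingDown_of_finitePresentation
    (R := K[X]) (S := A)).isOpen_range
  obtain ⟨_, ⟨g, rfl⟩, hmem, hsub⟩ := PrimeSpectrum.isTopologicalBasis_basic_opens.exists_subset_of_mem_open
    (Set.mem_range_self (⟨⊥, Ideal.isPrime_bot⟩ : PrimeSpectrum A)) hopen
  have hg : g ≠ 0 := by
    intro h
    apply hmem
    simp [h]
  let K₀ : Subfield K :=
    { (φ.range.comap (algebraMap K A)) with
      inv_mem' := fun x hx => by
        obtain ⟨c, hc⟩ := hx
        refine ⟨c⁻¹, ?_⟩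
        rcases eq_or_ne x 0 with rfl | hx0
        · rw [map_zero] at hc
          rw [(map_eq_zero φ).mp hc, inv_zero, map_zero, inv_zero, map_zero]
        refine mul_left_cancel₀ ((map_ne_zero_iff _ (algebraMap K A).injective).mpr hx0) ?_
        rw [← map_mul, mul_inv_cancel₀ hx0, map_one, ← hc, ← map_mul, mul_inv_cancel₀, map_one]
        intro hc0
        rw [hc0, map_zero, eq_comm, map_eq_zero_iff _ (algebraMap K A).injective] at hc
        exact hx0 hc }
  let Kb := AlgebraicClosure K
  let S := algebraicClosure K₀ Kb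
  haveI : IsAlgClosed S := (algebraicClosure.isAlgClosure K₀ Kb).isAlgClosed
  obtain ⟨b, hb⟩ : ∃ b : S, aeval (b : Kb) g ≠ 0 := by
    by_contra hne
    push Not at hne
    have hfin := finite_setOf_isRoot (p := g.map (algebraMap K Kb)) (map_ne_zero hg)
    refine Set.infinite_range_of_injective (f := fun b : S => (b : Kb)) Subtype.val_injective ?_
    refine hfin.subset ?_
    rintro _ ⟨b, rfl⟩
    simp only [Set.mem_setOf_eq, IsRoot.def, eval_map, ← aeval_def]
    exact hne b
  let P : PrimeSpectrum K[X] := ⟨RingHom.ker (aeval (b : Kb) : K[X] →ₐ[K] Kb).toRingHom, RingHom.ker_isPrime _⟩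
  obtain ⟨q, hq⟩ := hsub (show P ∈ PrimeSpectrum.basicOpen g from hb)
  have hint : IsIntegral K₀ (b : Kb) := ((mem_algebraicClosure_iff).mp b.2).isIntegral
  let m := minpoly K₀ (b : Kb)
  let m' : K[X] := m.map (algebraMap K₀ K)
  have hm' : m' ≠ 0 := map_ne_zero (minpoly.ne_zero hint)
  have hmP : m' ∈ P.asIdeal := by
    change aeval (b : Kb) m' = 0
    rw [aeval_map_algebraMap]
    exact minpoly.aeval _ _
  rw [← hq] at hmP
  have hmq : aeval (φ a) m' ∈ q.asIdeal := hmP
  obtain ⟨c, hc⟩ : aeval (φ a) m' ∈ φ.range := by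
    rw [aeval_eq_sum_range]
    refine Subring.sum_mem _ fun i _ => ?_
    rw [Algebra.smul_def, coeff_map]
    exact Subring.mul_mem _ (m.coeff i).2 (Subring.pow_mem _ (RingHom.mem_range_self φ a) i)
  have hc0 : c ≠ 0 := by
    rintro rfl
    rw [map_zero] at hc
    exact hm' (hinj (by rw [map_zero]; exact hc.symm))
  exact q.isPrime.ne_top (Ideal.eq_top_of_isUnit_mem _ hmq (hc ▸ (IsUnit.mk0 c hc0).map φ))

/-- A field mapping to a finitely generated domain generates a finite extension of the base. -/
theorem finite_adjoin_of_field (φ : F →+* A) :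
    Module.Finite K (Algebra.adjoin K (Set.range φ)) := by
  set S := Algebra.adjoin K (Set.range φ)
  have hle : S ≤ integralClosure K A := Algebra.adjoin_le (by
    rintro _ ⟨a, rfl⟩
    exact (isAlgebraic_of_field φ a).isIntegral)
  haveI : Algebra.IsIntegral K S :=
    ⟨fun x => (isIntegral_algHom_iff S.val Subtype.val_injective).mp (hle x.2)⟩
  have hF : IsField S := isField_of_isIntegral_of_isField' (Field.toIsField K)
  letI := hF.toField
  obtain ⟨M, hM⟩ := Ideal.exists_maximal A
  haveI : Module.Finite K (A ⧸ M) := by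
    letI := Ideal.Quotient.field M
    exact finite_of_finite_type_of_isJacobsonRing K (A ⧸ M)
  let ψ : S →ₐ[K] A ⧸ M := (Ideal.Quotient.mkₐ K M).comp S.val
  exact FiniteDimensional.of_injective ψ.toLinearMap ψ.toRingHom.injective

end Alg

open Groth.Agent.VarDim Groth.Agent.GrpdB

section Sch

variable {k : Type u} [Field k]

theorem fromSpecResidueField_comp {X : Scheme.{u}} (f : X ⟶ Spec (CommRingCat.of k)) (x : X) :
    X.fromSpecResidueField x ≫ f = Spec.map (CommRingCat.ofHom (baseToRes f x)) := by
  rw [← Scheme.Hom.SpecMap_residueFieldMap_fromSpecResidueField,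
    ← Scheme.Spec.map_residueFieldIso_inv_eq_fromSpecResidueField, ← Spec.map_comp, ← Spec.map_comp]
  congr 1
  rw [Scheme.Spec.algebraMap_residueFieldIso_inv]
  ext c
  exact (RingHom.congr_fun (baseToRes_comp (𝟙 (Spec (CommRingCat.of k))) f x) c).symm.trans
    (by rw [Category.comp_id]; rfl)

/-- The second structure map `k → κ(x)` of a point lands in a finite subextension of the first. -/
theorem exists_finite_subfield {X : Scheme.{u}} (f g : X ⟶ Spec (CommRingCat.of k))
    [LocallyOfFiniteType f] (x : X) :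
    ∃ (L : Type u) (_ : Field L) (a b : k →+* L) (ι : L →+* X.residueField x),
      a.Finite ∧ ι.comp a = baseToRes f x ∧ ι.comp b = baseToRes g x := by
  letI := resAlg f x
  obtain ⟨U, hU, hx, -⟩ := exists_isAffineOpen_mem_and_subset (U := (⊤ : X.Opens)) (x := x) trivial
  letI : Algebra k Γ(X, U) := (baseToSections f U).toAlgebra
  haveI : Algebra.FiniteType k Γ(X, U) := finiteType_baseToSections f hU
  let ψ : Γ(X, U) →ₐ[k] X.residueField x :=
    { (X.evaluation U x hx).hom with
      commutes' := fun c => RingHom.congr_fun (evaluation_comp_baseToSections f x hx) c }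
  haveI : Algebra.FiniteType k ψ.range :=
    Algebra.FiniteType.of_surjective ψ.rangeRestrict ψ.rangeRestrict_surjective
  let φ : k →+* ψ.range := ψ.rangeRestrict.toRingHom.comp (baseToSections g U)
  let S := Algebra.adjoin k (Set.range φ)
  haveI : Module.Finite k S := finite_adjoin_of_field φ
  letI : Field S := fieldOfFiniteDimensional k S
  refine ⟨S, inferInstance, algebraMap k S,
    φ.codRestrict S (fun c => Algebra.subset_adjoin ⟨c, rfl⟩), (ψ.range.val.comp S.val).toRingHom,
    RingHom.finite_algebraMap.mpr inferInstance, ?_, ?_⟩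
  · exact RingHom.ext fun c => (ψ.range.val.comp S.val).commutes c
  · rw [← evaluation_comp_baseToSections g x hx]
    rfl

variable {S : Scheme.{u}} (G : Grpd.GroupoidScheme S) (eU : G.U ≅ Spec (CommRingCat.of k))

include eU in
/-- Above every point in the image of `j` lies an arrow with values in a finite extension. -/
theorem exists_arrow [LocallyOfFiniteType G.s] (r : G.R) :
    ∃ (L : Type u) (_ : Field L) (ρ : Spec (CommRingCat.of L) ⟶ G.R) (y : Spec (CommRingCat.of L)),
      IsFinite (ρ ≫ G.s) ∧ G.j r = (ρ ≫ G.j) y := by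
  obtain ⟨L, _, a, b, ι, ha, hιa, hιb⟩ := exists_finite_subfield (G.s ≫ eU.hom) (G.t ≫ eU.hom) r
  set bs := Spec.map (CommRingCat.ofHom a) ≫ eU.inv
  set bt := Spec.map (CommRingCat.ofHom b) ≫ eU.inv
  set q := G.R.fromSpecResidueField r
  set π := Spec.map (CommRingCat.ofHom ι) with hπ
  haveI : Surjective π := ⟨fun z => ⟨IsLocalRing.closedPoint _, Subsingleton.elim (α := PrimeSpectrum L) _ _⟩⟩
  haveI : Flat π := by
    rw [hπ, HasRingHomProperty.Spec_iff (P := @Flat)]
    letI := ι.toAlgebra
    exact (inferInstance : Module.Flat L (G.R.residueField r))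
  haveI : IsRegularEpi π := isRegularEpi_of_flat_of_surjective_of_isAffine π
  have hs : π ≫ bs = q ≫ G.s := by
    rw [← cancel_mono eU.hom, Category.assoc, Category.assoc, Category.assoc, eU.inv_hom_id,
      Category.comp_id, hπ, ← Spec.map_comp, ← CommRingCat.ofHom_comp, hιa, fromSpecResidueField_comp]
  have ht : π ≫ bt = q ≫ G.t := by
    rw [← cancel_mono eU.hom, Category.assoc, Category.assoc, Category.assoc, eU.inv_hom_id,
      Category.comp_id, hπ, ← Spec.map_comp, ← CommRingCat.ofHom_comp, hιb, fromSpecResidueField_comp]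
  have hcond : bt ≫ G.pU = bs ≫ G.pU := by
    rw [← cancel_epi π, ← Category.assoc, ht, ← Category.assoc, hs, Category.assoc, Category.assoc,
      G.t_over, G.s_over]
  set w := pullback.lift bt bs hcond
  have hw : π ≫ w = q ≫ G.j := by
    apply pullback.hom_ext
    · rw [Category.assoc, pullback.lift_fst, ht, Category.assoc, j_fst]
    · rw [Category.assoc, pullback.lift_snd, hs, Category.assoc, j_snd]
  haveI : IsFinite bs := by
    haveI : IsFinite (Spec.map (CommRingCat.ofHom a)) := (IsFinite.SpecMap_iff _).mpr ha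
    infer_instance
  haveI : LocallyOfFiniteType G.j := by
    haveI : LocallyOfFiniteType (G.j ≫ pullback.snd G.pU G.pU) := by rw [j_snd]; infer_instance
    exact locallyOfFiniteType_of_comp G.j (pullback.snd G.pU G.pU)
  haveI : LocallyOfFiniteType (pullback.snd G.j w) := inferInstance
  haveI : JacobsonSpace (Spec (CommRingCat.of L)) := inferInstanceAs (JacobsonSpace (PrimeSpectrum L))
  haveI := LocallyOfFiniteType.jacobsonSpace (pullback.snd G.j w)
  let P : Scheme.{u} := pullback G.j w
  let z₀ : P := (pullback.lift q π hw.symm) (IsLocalRing.closedPoint _)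
  obtain ⟨z, -, hz⟩ := nonempty_inter_closedPoints (X := P) (⟨z₀, trivial⟩ : (Set.univ : Set P).Nonempty)
    isOpen_univ.isLocallyClosed
  haveI := isClosed_singleton_iff_isClosedImmersion.mp hz
  haveI : IsFinite (P.fromSpecResidueField z ≫ pullback.snd G.j w) :=
    isFinite_iff_locallyOfFiniteType_of_jacobsonSpace.mpr inferInstance
  refine ⟨P.residueField z, inferInstance, P.fromSpecResidueField z ≫ pullback.fst G.j w,
    IsLocalRing.closedPoint _, ?_, ?_⟩
  · have h1 : (P.fromSpecResidueField z ≫ pullback.fst G.j w) ≫ G.s =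
        (P.fromSpecResidueField z ≫ pullback.snd G.j w) ≫ bs := by
      rw [← j_snd (G := G), Category.assoc, Category.assoc, pullback.condition_assoc,
        pullback.lift_snd]
    rw [h1]
    infer_instance
  · rw [Category.assoc, pullback.condition, ← Category.assoc, Scheme.Hom.comp_apply]
    have e : (P.fromSpecResidueField z ≫ pullback.snd G.j w) (IsLocalRing.closedPoint _) =
        π (IsLocalRing.closedPoint _) := Subsingleton.elim (α := PrimeSpectrum L) _ _
    rw [e, ← Scheme.Hom.comp_apply, hw, Scheme.Hom.comp_apply]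
    congr 1
    exact (Scheme.fromSpecResidueField_apply _ _).symm

omit eU in
theorem isImmersion_diag : IsImmersion G.diag := by
  haveI : IsImmersion (G.diag ≫ pullback.fst G.pU G.pU) := by rw [diag_fst]; infer_instance
  exact IsImmersion.of_comp G.diag (pullback.fst G.pU G.pU)

theorem dim_le_of_isIntegralHom {X Y : Scheme.{u}} (f : X ⟶ Y) [IsIntegralHom f] :
    topologicalKrullDim X ≤ topologicalKrullDim Y := by
  have hmono : StrictMono f := by
    intro a b hab
    rw [lt_iff_specializes_and_ne] at hab ⊢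
    exact ⟨hab.1.map f.continuous,
      fun he => hab.2 (H12.eq_of_specializes_of_isIntegralHom f hab.1 he.symm).symm⟩
  rw [scheme_dim_eq_iSup_height, scheme_dim_eq_iSup_height]
  refine iSup_le fun x => le_iSup_of_le (f x) ?_
  exact_mod_cast Order.height_le_height_apply_of_strictMono _ hmono x

/-- `R ×_{U × U} (a point given by an arrow ρ)` is a translate of the stabilizer. -/
theorem exists_iso_stabilizer {T : Scheme.{u}} (ρ : T ⟶ G.R) :
    ∃ φ : pullback G.j (ρ ≫ G.j) ⟶ pullback G.stabilizerToU (ρ ≫ G.s), IsIso φ := by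
  set a := pullback.fst G.j (ρ ≫ G.j) with ha
  set v := pullback.snd G.j (ρ ≫ G.j) with hv
  have hj : a ≫ G.j = (v ≫ ρ) ≫ G.j := by rw [ha, hv, pullback.condition, Category.assoc]
  have hat := t_eq_of_comp_j hj
  have has := s_eq_of_comp_j hj
  have h1 : ((v ≫ ρ) ≫ G.i) ≫ G.s = a ≫ G.t := by rw [inv_s, hat]
  set g := cmp G ((v ≫ ρ) ≫ G.i) a h1 with hg
  have hgt : g ≫ G.t = v ≫ ρ ≫ G.s := by rw [hg, cmp_t, inv_t, Category.assoc]
  have hgs : g ≫ G.s = v ≫ ρ ≫ G.s := by rw [hg, cmp_s, has, Category.assoc]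
  let φ : pullback G.j (ρ ≫ G.j) ⟶ pullback G.stabilizerToU (ρ ≫ G.s) :=
    pullback.lift (pullback.lift g (v ≫ ρ ≫ G.s) (lift_cond g _ hgt hgs)) v
      (pullback.lift_snd _ _ _)
  set b := pullback.fst G.stabilizerToU (ρ ≫ G.s) ≫ pullback.fst G.j G.diag with hb
  set w := pullback.snd G.stabilizerToU (ρ ≫ G.s) with hw
  have hbj : b ≫ G.j = (w ≫ ρ ≫ G.s) ≫ G.diag :=
    (Category.assoc _ _ _).trans ((congrArg (pullback.fst G.stabilizerToU (ρ ≫ G.s) ≫ ·) pullback.condition).trans
      ((Category.assoc _ _ _).symm.trans (congrArg (· ≫ G.diag) pullback.condition)))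
  have hbt : b ≫ G.t = w ≫ ρ ≫ G.s := by
    have h := congrArg (· ≫ pullback.fst G.pU G.pU) hbj
    simp only [Category.assoc, j_fst, diag_fst, Category.comp_id] at h
    exact h
  have hbs : b ≫ G.s = w ≫ ρ ≫ G.s := by
    have h := congrArg (· ≫ pullback.snd G.pU G.pU) hbj
    simp only [Category.assoc, j_snd, diag_snd, Category.comp_id] at h
    exact h
  have h2 : (w ≫ ρ) ≫ G.s = b ≫ G.t := by rw [hbt, Category.assoc]
  set c := cmp G (w ≫ ρ) b h2 with hc
  let ψ : pullback G.stabilizerToU (ρ ≫ G.s) ⟶ pullback G.j (ρ ≫ G.j) :=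
    pullback.lift c w (by
      apply pullback.hom_ext
      · simp only [Category.assoc, j_fst]
        rw [hc, cmp_t, Category.assoc]
      · simp only [Category.assoc, j_snd]
        rw [hc, cmp_s, hbs])
  have hψv : ψ ≫ v = w := pullback.lift_snd _ _ _
  have hψa : ψ ≫ a = c := pullback.lift_fst _ _ _
  have hφw : φ ≫ w = v := pullback.lift_snd _ _ _
  have hφb : φ ≫ b = g := by
    rw [hb]
    exact (pullback.lift_fst_assoc _ _ _ _).trans (pullback.lift_fst _ _ _)
  refine ⟨φ, ⟨ψ, ?_, ?_⟩⟩
  · apply pullback.hom_ext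
    · rw [Category.assoc, ← ha, hψa, hc, comp_cmp, Category.id_comp,
        cmp_congr (α' := v ≫ ρ) (by rw [← Category.assoc, hφw]) hφb]
      exact cancel_left' (v ≫ ρ) a hat.symm
    · rw [Category.assoc, ← hv, hψv, hφw, Category.id_comp]
  · apply pullback.hom_ext
    · apply pullback.hom_ext
      · have e : ψ ≫ g = b := by
          rw [hg, comp_cmp, cmp_congr (α' := (w ≫ ρ) ≫ G.i)
            (by rw [← Category.assoc, ← Category.assoc, hψv]) hψa]
          exact cancel_left (w ≫ ρ) b h2
        refine ((congrArg (· ≫ pullback.fst G.j G.diag) (Category.assoc ψ φ _)).trans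
          ((Category.assoc _ _ _).trans ?_)).trans
            (congrArg (· ≫ pullback.fst G.j G.diag) (Category.id_comp _)).symm
        exact (congrArg (ψ ≫ ·) ((Category.assoc _ _ _).trans hφb)).trans e
      · have e : φ ≫ pullback.fst G.stabilizerToU (ρ ≫ G.s) ≫ pullback.snd G.j G.diag = v ≫ ρ ≫ G.s :=
          (pullback.lift_fst_assoc _ _ _ _).trans (pullback.lift_snd _ _ _)
        refine ((congrArg (· ≫ pullback.snd G.j G.diag) (Category.assoc ψ φ _)).trans
          ((Category.assoc _ _ _).trans ?_)).trans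
            (congrArg (· ≫ pullback.snd G.j G.diag) (Category.id_comp _)).symm
        refine (congrArg (ψ ≫ ·) ((Category.assoc _ _ _).trans e)).trans ?_
        rw [← Category.assoc, hψv]
        exact (pullback.condition (f := G.stabilizerToU) (g := ρ ≫ G.s)).symm
    · rw [Category.assoc, ← hw, hφw, hψv, Category.id_comp]

include eU in
/-- The arrows and the stabilizer of a groupoid over a field have the same dimension. -/
theorem dim_eq [LocallyOfFiniteType G.s] :
    topologicalKrullDim G.R = topologicalKrullDim G.stabilizer := by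
  haveI := isImmersion_diag G
  refine le_antisymm ?_
    ((pullback.fst G.j G.diag).isEmbedding.isInducing.topologicalKrullDim_le)
  rw [dim_eq_iSup_sdim (G.s ≫ eU.hom)]
  refine iSup_le fun r => ?_
  obtain ⟨L, _, ρ, y, hρ, hy⟩ := exists_arrow G eU r
  obtain ⟨z, hz, -⟩ := Scheme.Pullback.exists_preimage_pullback r y hy
  haveI : LocallyOfFiniteType (ρ ≫ G.j) := by
    haveI : LocallyOfFiniteType ((ρ ≫ G.j) ≫ pullback.snd G.pU G.pU) := by
      rw [Category.assoc, j_snd]; infer_instance
    exact locallyOfFiniteType_of_comp (ρ ≫ G.j) (pullback.snd G.pU G.pU)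
  obtain ⟨φ, hφ⟩ := exists_iso_stabilizer G ρ
  haveI : IsFinite (pullback.fst G.stabilizerToU (ρ ≫ G.s)) := inferInstance
  calc ((sdim (G.s ≫ eU.hom) r : ℕ) : WithBot ℕ∞)
      ≤ ((sdim (pullback.fst G.j (ρ ≫ G.j) ≫ G.s ≫ eU.hom) z : ℕ) : WithBot ℕ∞) := by
        rw [← hz]
        exact_mod_cast sdim_le_comp (G.s ≫ eU.hom) (pullback.fst G.j (ρ ≫ G.j)) z
    _ ≤ topologicalKrullDim ↥(pullback G.j (ρ ≫ G.j)) := by
        rw [dim_eq_iSup_sdim (pullback.fst G.j (ρ ≫ G.j) ≫ G.s ≫ eU.hom)]
        exact le_iSup (fun z => ((sdim (pullback.fst G.j (ρ ≫ G.j) ≫ G.s ≫ eU.hom) z : ℕ) : WithBot ℕ∞)) z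
    _ ≤ topologicalKrullDim ↥(pullback G.stabilizerToU (ρ ≫ G.s)) := dim_le_of_isIntegralHom φ
    _ ≤ topologicalKrullDim G.stabilizer := dim_le_of_isIntegralHom (pullback.fst G.stabilizerToU (ρ ≫ G.s))

end Sch

end Groth.Agent.GrpdDim19
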