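import Groth.Agent.Lib.GrpdDim19.Basic
import Groth.Agent.Lib.H12.Dim
import Groth.Agent.Lib.TopDimLib.Basic
import Mathlib.AlgebraicGeometry.AlgClosed.Basic
import Mathlib.AlgebraicGeometry.Properties
import Mathlib.AlgebraicGeometry.Morphisms.QuasiFinite
import Mathlib.AlgebraicGeometry.Noetherian

/-! # Equidimensionality of a groupoid scheme over a field. -/

set_option autoImplicit false
set_option linter.style.haveILetI false
universe u

open CategoryTheory CategoryTheory.Limits AlgebraicGeometry Order Topology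

namespace Groth.Agent.GrpdDim19

open Groth.Agent.VarDim Groth.Agent.GrpdB

theorem strictMono_of_locallyQuasiFinite {X Y : Scheme.{u}} (f : X ⟶ Y) [LocallyQuasiFinite f] :
    StrictMono f := by
  intro a b hab
  rw [lt_iff_specializes_and_ne] at hab ⊢
  refine ⟨hab.1.map f.continuous, fun he => hab.2 ?_⟩
  haveI : DiscreteTopology ↥(f ⁻¹' {f a}) := (f.isDiscrete_preimage_singleton (f a)).to_subtype
  have hs : (⟨b, he.symm⟩ : f ⁻¹' {f a}) ⤳ ⟨a, rfl⟩ := subtype_specializes_iff _ _ |>.mpr hab.1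
  exact congrArg Subtype.val hs.eq.symm

theorem exists_isMax_ge {X : Scheme.{u}} (x : X) : ∃ w, x ≤ w ∧ IsMax w := by
  obtain ⟨w, hw⟩ := QuasiSober.sober (isIrreducible_irreducibleComponent (x := x)) isClosed_irreducibleComponent
  refine ⟨w, hw.specializes mem_irreducibleComponent, fun v hv => ?_⟩
  have hsub : irreducibleComponent x ⊆ closure {v} := by
    rw [← hw.def]
    exact closure_minimal (Set.singleton_subset_iff.mpr (Specializes.mem_closure hv)) isClosed_closure
  exact hw.specializes ((irreducibleComponent_mem_irreducibleComponents x).2 isIrreducible_singleton.closure hsub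
    (subset_closure rfl))

theorem isMax_of_isGenericPoint {X : Scheme.{u}} {Z : Set X} (hZ : Z ∈ irreducibleComponents X) {ξ : X}
    (hξ : IsGenericPoint ξ Z) : IsMax ξ := by
  intro v hv
  have hsub : Z ⊆ closure {v} := by
    rw [← hξ.def]
    exact closure_minimal (Set.singleton_subset_iff.mpr (Specializes.mem_closure hv)) isClosed_closure
  exact hξ.specializes (hZ.2 isIrreducible_singleton.closure hsub (subset_closure rfl))

theorem strictMono_of_isIntegralHom {X Y : Scheme.{u}} (f : X ⟶ Y) [IsIntegralHom f] : StrictMono f := by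
  intro a b hab
  rw [lt_iff_specializes_and_ne] at hab ⊢
  exact ⟨hab.1.map f.continuous,
    fun he => hab.2 (H12.eq_of_specializes_of_isIntegralHom f hab.1 he.symm).symm⟩

/-- A scheme locally of finite type over an algebraically closed field on which automorphisms act
transitively on closed points is equidimensional. -/
theorem height_eq_dim_of_transitive {M : Type u} [Field M] {P : Scheme.{u}} (π : P ⟶ Spec (CommRingCat.of M))
    [LocallyOfFiniteType π]
    (htr : ∀ z z' : P, IsClosed ({z} : Set P) → IsClosed ({z'} : Set P) → ∃ θ : P ≅ P, θ.hom z = z')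
    (η : P) (hη : IsMax η) : ((height η : ℕ∞) : WithBot ℕ∞) = topologicalKrullDim P := by
  classical
  haveI := LocallyOfFiniteType.jacobsonSpace π
  -- a closed point seeing only the component of `η`
  obtain ⟨z, hzc, hz⟩ : ∃ z : P, IsClosed ({z} : Set P) ∧ ∀ x : P, IsMax x → x ⤳ z → x = η := by
    obtain ⟨U, hU, hηU, -⟩ := exists_isAffineOpen_mem_and_subset (U := (⊤ : P.Opens)) (x := η) trivial
    haveI : IsLocallyNoetherian P := LocallyOfFiniteType.isLocallyNoetherian π
    haveI : IsNoetherianRing Γ(P, U) := IsLocallyNoetherian.component_noetherian ⟨U, hU⟩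
    set T := hU.fromSpec '' (⋃ q ∈ {q : PrimeSpectrum Γ(P, U) | q.asIdeal ∈ minimalPrimes Γ(P, U) ∧ hU.fromSpec q ≠ η},
      closure {q}) with hT
    have hfin : {q : PrimeSpectrum Γ(P, U) | q.asIdeal ∈ minimalPrimes Γ(P, U) ∧ hU.fromSpec q ≠ η}.Finite :=
      ((minimalPrimes.finite_of_isNoetherianRing Γ(P, U)).preimage (f := PrimeSpectrum.asIdeal)
        (fun a _ b _ h => PrimeSpectrum.ext h)).subset fun q hq => hq.1
    have hclosed : IsClosed (⋃ q ∈ {q : PrimeSpectrum Γ(P, U) | q.asIdeal ∈ minimalPrimes Γ(P, U) ∧ hU.fromSpec q ≠ η},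
      closure {q}) := hfin.isClosed_biUnion fun _ _ => isClosed_closure
    let O : P.Opens := hU.fromSpec ''ᵁ ⟨_, hclosed.isOpen_compl⟩
    have hmaxmin : ∀ (x : P) (hx : x ∈ U), IsMax x → (hU.primeIdealOf ⟨x, hx⟩).asIdeal ∈ minimalPrimes Γ(P, U) := by
      intro x hx hmax
      refine ⟨⟨(hU.primeIdealOf _).isPrime, bot_le⟩, fun q hq hle => ?_⟩
      have h1 := (fromSpec_le_iff hU ⟨q, hq.1⟩ (hU.primeIdealOf ⟨x, hx⟩)).mpr hle
      rw [hU.fromSpec_primeIdealOf] at h1
      have h2 := (Specializes.antisymm (hmax h1) h1).eq.symm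
      exact le_of_eq (congrArg PrimeSpectrum.asIdeal (hU.fromSpec.isOpenEmbedding.injective
        (a₁ := hU.primeIdealOf ⟨x, hx⟩) (a₂ := ⟨q, hq.1⟩) ((hU.fromSpec_primeIdealOf _).trans h2.symm)))
    have hηO : η ∈ O := by
      refine ⟨hU.primeIdealOf ⟨η, hηU⟩, ?_, hU.fromSpec_primeIdealOf _⟩
      intro hmem
      simp only [Set.mem_iUnion₂] at hmem
      obtain ⟨q, ⟨-, hqne⟩, hq⟩ := hmem
      have hs : hU.fromSpec q ⤳ η := by
        have := (specializes_iff_mem_closure.mpr hq).map hU.fromSpec.continuous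
        rwa [hU.fromSpec_primeIdealOf] at this
      exact hqne (Specializes.antisymm hs (hη hs)).eq
    obtain ⟨z, hzO, hz⟩ := nonempty_inter_closedPoints (X := P) (⟨η, hηO⟩ : (O : Set P).Nonempty) O.2.isLocallyClosed
    refine ⟨z, hz, fun x hx hxz => ?_⟩
    obtain ⟨q₀, hq₀, rfl⟩ := hzO
    have hxU : x ∈ U := hxz.mem_open U.2 (hU.range_fromSpec.subset ⟨q₀, rfl⟩)
    by_contra hne
    refine hq₀ (Set.mem_iUnion₂.mpr ⟨hU.primeIdealOf ⟨x, hxU⟩, ⟨hmaxmin x hxU hx, ?_⟩, ?_⟩)
    · rw [hU.fromSpec_primeIdealOf]; exact hne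
    · refine specializes_iff_mem_closure.mp ((hU.fromSpec.isOpenEmbedding.isInducing.specializes_iff).mp ?_)
      rw [hU.fromSpec_primeIdealOf]
      exact hxz
  rw [scheme_dim_eq_iSup_height]
  refine le_antisymm (le_iSup (fun x : P => ((height x : ℕ∞) : WithBot ℕ∞)) η) (iSup_le fun x => ?_)
  obtain ⟨y, hy, hyc⟩ := nonempty_inter_closedPoints (X := P) (Z := closure {x}) ⟨x, subset_closure rfl⟩
    isClosed_closure.isLocallyClosed
  obtain ⟨θ, hθ⟩ := htr y z hyc hzc
  -- a generic point above the image of `x`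
  obtain ⟨x', hx', hxmax⟩ := exists_isMax_ge (θ.hom x)
  have hxy : x ⤳ y := specializes_iff_mem_closure.mpr hy
  have hx'z : x' ⤳ z := (show x' ⤳ θ.hom x from hx').trans (hθ ▸ hxy.map θ.hom.continuous)
  have hmono : height x ≤ height (θ.hom x) :=
    height_le_height_apply_of_strictMono _ (strictMono_of_isIntegralHom θ.hom) x
  rw [← hz x' hxmax hx'z]
  exact_mod_cast hmono.trans (height_mono hx')

/-- Left translation between two sections of a fibre of `j`. -/
theorem exists_translation {S : Scheme.{u}} (G : Grpd.GroupoidScheme S) {T : Scheme.{u}}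
    (v : T ⟶ pullback G.pU G.pU) (ρ₁ ρ₂ : T ⟶ G.R) (h₁ : ρ₁ ≫ G.j = v) (h₂ : ρ₂ ≫ G.j = v) :
    ∃ θ : pullback G.j v ≅ pullback G.j v,
      pullback.lift ρ₁ (𝟙 T) (by rw [h₁, Category.id_comp]) ≫ θ.hom =
        pullback.lift ρ₂ (𝟙 T) (by rw [h₂, Category.id_comp]) := by
  set a := pullback.fst G.j v
  set q := pullback.snd G.j v
  have hj : ∀ ρ : T ⟶ G.R, ρ ≫ G.j = v → a ≫ G.j = (q ≫ ρ) ≫ G.j := fun ρ h => by
    rw [Category.assoc, h, pullback.condition]
  have h3 : ∀ ρ : T ⟶ G.R, ρ ≫ G.j = v → inv' (q ≫ ρ) ≫ G.s = a ≫ G.t := fun ρ h => by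
    rw [inv_s, t_eq_of_comp_j (hj ρ h)]
  have h4 : ∀ (x y : T ⟶ G.R) (hx : x ≫ G.j = v) (hy : y ≫ G.j = v),
      (q ≫ y) ≫ G.s = cmp G (inv' (q ≫ x)) a (h3 x hx) ≫ G.t := fun x y hx hy => by
    rw [cmp_t, inv_t, ← s_eq_of_comp_j (hj x hx), ← s_eq_of_comp_j (hj y hy)]
  let mk : ∀ (x y : T ⟶ G.R), x ≫ G.j = v → y ≫ G.j = v → (pullback G.j v ⟶ pullback G.j v) :=
    fun x y hx hy => pullback.lift (cmp G (q ≫ y) (cmp G (inv' (q ≫ x)) a (h3 x hx)) (h4 x y hx hy)) q (by
      have ht := t_eq_of_comp_j (hj y hy)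
      have hs := (s_eq_of_comp_j (hj x hx))
      apply pullback.hom_ext
      · rw [← pullback.condition]
        simp only [Category.assoc, j_fst, cmp_t]
        exact (ht.trans (Category.assoc _ _ _)).symm
      · rw [← pullback.condition]
        simp only [Category.assoc, j_snd, cmp_s]
        rfl)
  have hmk : ∀ (x y : T ⟶ G.R) (hx : x ≫ G.j = v) (hy : y ≫ G.j = v), mk x y hx hy ≫ mk y x hy hx = 𝟙 _ := by
    intro x y hx hy
    have e1 : mk x y hx hy ≫ q = q := pullback.lift_snd _ _ _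
    have e2 : mk x y hx hy ≫ a = cmp G (q ≫ y) (cmp G (inv' (q ≫ x)) a (h3 x hx)) (h4 x y hx hy) := pullback.lift_fst _ _ _
    apply pullback.hom_ext
    · rw [Category.assoc, pullback.lift_fst, Category.id_comp, comp_cmp]
      have e3 : mk x y hx hy ≫ cmp G (inv' (q ≫ y)) a (h3 y hy) = cmp G (inv' (q ≫ x)) a (h3 x hx) := by
        rw [comp_cmp, cmp_congr (α' := inv' (q ≫ y)) (by simp only [inv', ← Category.assoc, e1]) e2]
        exact cancel_left (q ≫ y) _ (h4 x y hx hy)
      rw [cmp_congr (α' := q ≫ x) (by rw [← Category.assoc, e1]) e3]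
      exact cancel_left' (q ≫ x) a (t_eq_of_comp_j (hj x hx)).symm
    · rw [Category.assoc, pullback.lift_snd, e1, Category.id_comp]
  refine ⟨⟨mk ρ₁ ρ₂ h₁ h₂, mk ρ₂ ρ₁ h₂ h₁, hmk ρ₁ ρ₂ h₁ h₂, hmk ρ₂ ρ₁ h₂ h₁⟩, ?_⟩
  set σ := pullback.lift ρ₁ (𝟙 T) (show ρ₁ ≫ G.j = 𝟙 T ≫ v by rw [h₁, Category.id_comp])
  have eq' : σ ≫ q = 𝟙 T := pullback.lift_snd _ _ _
  have ea : σ ≫ a = ρ₁ := pullback.lift_fst _ _ _
  apply pullback.hom_ext
  · rw [Category.assoc, pullback.lift_fst, comp_cmp, pullback.lift_fst]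
    have e3 : σ ≫ cmp G (inv' (q ≫ ρ₁)) a (h3 ρ₁ h₁) = (ρ₁ ≫ G.s) ≫ G.e := by
      rw [comp_cmp, cmp_congr (α' := inv' ρ₁) (by simp only [inv', ← Category.assoc, eq', Category.id_comp]) ea]
      exact (G.i_comp ρ₁).trans (Category.assoc _ _ _).symm
    rw [cmp_congr (α' := ρ₂) (by rw [← Category.assoc, eq', Category.id_comp]) e3]
    exact cmp_id' ρ₂ _ (by rw [Category.assoc, G.e_t, Category.comp_id, s_eq_of_comp_j (h₁.trans h₂.symm)])
  · rw [Category.assoc, pullback.lift_snd, eq', pullback.lift_snd]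

theorem flat_to_field {k : Type u} [Field k] {X : Scheme.{u}} (f : X ⟶ Spec (CommRingCat.of k)) : Flat f := by
  infer_instance

variable {k : Type u} [Field k] {S : Scheme.{u}} (G : Grpd.GroupoidScheme S) (eU : G.U ≅ Spec (CommRingCat.of k))
  [LocallyOfFiniteType G.s]

theorem locallyOfFiniteType_stabilizerToU : LocallyOfFiniteType G.stabilizerToU := by
  haveI : LocallyOfFiniteType G.j := by
    haveI : LocallyOfFiniteType (G.j ≫ pullback.snd G.pU G.pU) := by rw [j_snd]; infer_instance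
    exact locallyOfFiniteType_of_comp G.j (pullback.snd G.pU G.pU)
  exact inferInstanceAs (LocallyOfFiniteType (pullback.snd G.j G.diag))

include eU in
/-- Every generic point of `R` has height `dim R`. -/
theorem height_eq_dim (ξ : G.R) (hξ : IsMax ξ) :
    ((height ξ : ℕ∞) : WithBot ℕ∞) = topologicalKrullDim G.R := by
  refine le_antisymm ?_ ?_
  · rw [scheme_dim_eq_iSup_height]; exact le_iSup (fun x : G.R => ((height x : ℕ∞) : WithBot ℕ∞)) ξ
  obtain ⟨L, _, ρ, y, hρ, hy⟩ := exists_arrow G eU ξ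
  set w : Spec (CommRingCat.of L) ⟶ pullback G.pU G.pU := ρ ≫ G.j with hw
  haveI : LocallyQuasiFinite w := by
    haveI : LocallyQuasiFinite (w ≫ pullback.snd G.pU G.pU) := by
      rw [hw, Category.assoc, j_snd]; infer_instance
    exact LocallyQuasiFinite.of_comp w (pullback.snd G.pU G.pU)
  obtain ⟨ξ₀, hξ₀, -⟩ := Scheme.Pullback.exists_preimage_pullback ξ y hy
  -- pass to an algebraic closure
  set π := Spec.map (CommRingCat.ofHom (algebraMap L (AlgebraicClosure L))) with hπ
  haveI : Surjective π := ⟨fun z => ⟨IsLocalRing.closedPoint _, Subsingleton.elim (α := PrimeSpectrum L) _ _⟩⟩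
  haveI : Flat π := by
    rw [hπ, HasRingHomProperty.Spec_iff (P := @Flat)]
    exact RingHom.flat_algebraMap_iff.mpr inferInstance
  haveI : IsIntegralHom π := by
    rw [hπ, IsIntegralHom.SpecMap_iff, CommRingCat.hom_ofHom]
    exact fun x => Algebra.IsIntegral.isIntegral x
  haveI : LocallyOfFiniteType G.j := by
    haveI : LocallyOfFiniteType (G.j ≫ pullback.snd G.pU G.pU) := by rw [j_snd]; infer_instance
    exact locallyOfFiniteType_of_comp G.j (pullback.snd G.pU G.pU)
  set P := pullback G.j (π ≫ w)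
  let τ : P ⟶ pullback G.j w := pullback.lift (pullback.fst _ _) (pullback.snd _ _ ≫ π)
    (by rw [Category.assoc, pullback.condition])
  have hτ : IsPullback τ (pullback.snd G.j (π ≫ w)) (pullback.snd G.j w) π :=
    IsPullback.of_right (by rw [pullback.lift_fst]; exact IsPullback.of_hasPullback G.j (π ≫ w))
      (pullback.lift_snd _ _ _) (IsPullback.of_hasPullback G.j w)
  haveI : IsIntegralHom τ := MorphismProperty.of_isPullback hτ.flip inferInstance
  haveI : Surjective τ := MorphismProperty.of_isPullback hτ.flip inferInstance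
  -- generic point above `ξ₀`
  obtain ⟨η₂, hη₂⟩ := τ.surjective ξ₀
  obtain ⟨η, hηle, hηmax⟩ := exists_isMax_ge η₂
  have hh : ((height η : ℕ∞) : WithBot ℕ∞) ≤ ((height ξ : ℕ∞) : WithBot ℕ∞) := by
    have hm0 : StrictMono (pullback.fst G.j w) := strictMono_of_locallyQuasiFinite _
    have h1 := height_le_height_apply_of_strictMono _ (strictMono_of_isIntegralHom τ) η
    have h2 := height_le_height_apply_of_strictMono _ hm0 (τ η)
    have h3 : pullback.fst G.j w (τ η) = ξ := by
      have hs : pullback.fst G.j w (τ η) ⤳ ξ := by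
        rw [← hξ₀, ← hη₂]
        exact ((show η ⤳ η₂ from hηle).map τ.continuous).map (pullback.fst G.j w).continuous
      exact (Specializes.antisymm hs (hξ hs)).eq
    exact_mod_cast h1.trans (h2.trans (le_of_eq (congrArg height h3)))
  refine le_trans ?_ hh
  have htr : ∀ z z' : P, IsClosed ({z} : Set P) → IsClosed ({z'} : Set P) → ∃ θ : P ≅ P, θ.hom z = z' := by
    intro z z' hz hz'
    set σ := pointOfClosedPoint (pullback.snd G.j (π ≫ w)) z hz with hσdef
    set σ' := pointOfClosedPoint (pullback.snd G.j (π ≫ w)) z' hz' with hσ'def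
    have hσ : σ ≫ pullback.snd G.j (π ≫ w) = 𝟙 _ := pointOfClosedPoint_comp _ z hz
    have hσ' : σ' ≫ pullback.snd G.j (π ≫ w) = 𝟙 _ := pointOfClosedPoint_comp _ z' hz'
    have h1 : (σ ≫ pullback.fst _ _) ≫ G.j = π ≫ w := by
      rw [Category.assoc, pullback.condition, ← Category.assoc, hσ, Category.id_comp]
    have h2 : (σ' ≫ pullback.fst _ _) ≫ G.j = π ≫ w := by
      rw [Category.assoc, pullback.condition, ← Category.assoc, hσ', Category.id_comp]
    obtain ⟨θ, hθ⟩ := exists_translation G (π ≫ w) _ _ h1 h2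
    refine ⟨θ, ?_⟩
    have e1 : ∀ (σ : Spec (CommRingCat.of (AlgebraicClosure L)) ⟶ P) (hσ : σ ≫ pullback.snd G.j (π ≫ w) = 𝟙 _) (h),
        pullback.lift (σ ≫ pullback.fst _ _) (𝟙 _) h = σ := fun σ hσ h => by
      apply pullback.hom_ext
      · rw [pullback.lift_fst]
      · rw [pullback.lift_snd, hσ]
    rw [e1 σ hσ, e1 σ' hσ'] at hθ
    rw [← pointOfClosedPoint_apply (pullback.snd G.j (π ≫ w)) z hz (IsLocalRing.closedPoint _),
      ← pointOfClosedPoint_apply (pullback.snd G.j (π ≫ w)) z' hz' (IsLocalRing.closedPoint _),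
      ← hσdef, ← hσ'def, ← hθ, Scheme.Hom.comp_apply]
  rw [height_eq_dim_of_transitive (pullback.snd G.j (π ≫ w)) htr η hηmax]
  rw [dim_eq G eU]
  obtain ⟨φ, hφ⟩ := exists_iso_stabilizer G (π ≫ ρ)
  have hv : (π ≫ ρ) ≫ G.j = π ≫ w := Category.assoc _ _ _
  haveI : LocallyOfFiniteType G.stabilizerToU := locallyOfFiniteType_stabilizerToU G
  haveI : Flat ((π ≫ ρ) ≫ G.s) := by
    rw [← MorphismProperty.cancel_right_of_respectsIso @Flat _ eU.hom]
    exact Groth.Agent.GrpdDim19.flat_to_field _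
  haveI : Surjective ((π ≫ ρ) ≫ G.s) := ⟨fun z => ⟨IsLocalRing.closedPoint _, by
    haveI : Subsingleton G.U := eU.hom.homeomorph.injective.subsingleton (β := PrimeSpectrum k)
    exact Subsingleton.elim _ _⟩⟩
  calc topologicalKrullDim G.stabilizer
      ≤ topologicalKrullDim ↥(pullback G.stabilizerToU ((π ≫ ρ) ≫ G.s)) :=
        H12.topologicalKrullDim_le_of_surjective_of_lift _ (pullback.fst G.stabilizerToU ((π ≫ ρ) ≫ G.s)).surjective
          (Or.inr (Flat.generalizingMap _))
    _ ≤ topologicalKrullDim ↥(pullback G.j ((π ≫ ρ) ≫ G.j)) := dim_le_of_isIntegralHom (inv φ)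
    _ = topologicalKrullDim P := by rw [hv]

include eU in
/-- All local rings at closed points have dimension `dim R`. -/
theorem ringKrullDim_stalk_eq (r : G.R) (hr : IsClosed ({r} : Set G.R)) :
    ringKrullDim (G.R.presheaf.stalk r) = topologicalKrullDim G.R := by
  obtain ⟨ξ, hξ, hξmax⟩ := exists_isMax_ge r
  rw [AlgebraicGeometry.ringKrullDim_stalk_eq_coheight]
  refine le_antisymm ?_ ?_
  · rw [VarDim.scheme_dim_eq_iSup_height]
    rw [← Order.krullDim_eq_iSup_height]
    exact Order.coheight_le_krullDim r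
  rw [← height_eq_dim G eU ξ hξmax]
  set f := G.s ≫ eU.hom
  obtain ⟨U, hU, hrU, -⟩ := exists_isAffineOpen_mem_and_subset (U := (⊤ : G.R.Opens)) (x := r) trivial
  have hξr : ξ ⤳ r := hξ
  have hξU : ξ ∈ U := hξr.mem_open U.2 hrU
  letI : Algebra k Γ(G.R, U) := (baseToSections f U).toAlgebra
  haveI : Algebra.FiniteType k Γ(G.R, U) := finiteType_baseToSections f hU
  set p := hU.primeIdealOf ⟨ξ, hξU⟩
  set m := hU.primeIdealOf ⟨r, hrU⟩
  have hpm : p ≤ m := by
    rw [← fromSpec_le_iff hU, hU.fromSpec_primeIdealOf, hU.fromSpec_primeIdealOf]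
    exact hξr
  let mk := Ideal.Quotient.mk p.asIdeal
  let m' : PrimeSpectrum (Γ(G.R, U) ⧸ p.asIdeal) :=
    ⟨m.asIdeal.map mk, Ideal.map_isPrime_of_surjective Ideal.Quotient.mk_surjective (by rw [Ideal.mk_ker]; exact hpm)⟩
  have hm' : PrimeSpectrum.comap mk m' = m := PrimeSpectrum.ext (by
    change (m.asIdeal.map mk).comap mk = m.asIdeal
    rw [Ideal.comap_map_of_surjective mk Ideal.Quotient.mk_surjective, ← RingHom.ker_eq_comap_bot,
      Ideal.mk_ker, sup_eq_left.mpr hpm])
  have hco : coheight m = 0 := by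
    rw [sdim_eq_coheight f hU r hrU, (sdim_eq_zero_iff_isClosed f r).mpr hr, Nat.cast_zero]
  have hco' : coheight m' = 0 := by
    refine le_antisymm ?_ zero_le
    calc coheight m' ≤ coheight (PrimeSpectrum.comap mk m') :=
          coheight_le_coheight_apply_of_strictMono _ (RingHom.strictMono_comap_of_surjective (f := mk) Ideal.Quotient.mk_surjective) m'
      _ = 0 := by rw [hm', hco]
  have hh : height m' = (tdeg k (Γ(G.R, U) ⧸ p.asIdeal) : ℕ∞) := by
    rw [← height_add_coheight_nat k _ m', hco', add_zero]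
  have h1 : height ξ ≤ height m := by
    rw [height_eq_sdim f, ← sdim_eq_coheight f hU ξ hξU, coheight_eq_tdeg k, ← hh, ← hm']
    exact height_le_height_apply_of_strictMono _ (RingHom.strictMono_comap_of_surjective (f := mk) Ideal.Quotient.mk_surjective) m'
  have h2 : height m ≤ coheight r := by
    let g : PrimeSpectrum Γ(G.R, U) → (↥G.R)ᵒᵈ := fun q => OrderDual.toDual (hU.fromSpec q : ↥G.R)
    have hg : StrictMono g := fun a b hab => by
      change hU.fromSpec b < hU.fromSpec a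
      simp only [lt_iff_le_not_ge, fromSpec_le_iff] at hab ⊢
      exact hab
    have h3 := height_le_height_apply_of_strictMono g hg m
    have e : (hU.fromSpec m : ↥G.R) = r := hU.fromSpec_primeIdealOf ⟨r, hrU⟩
    exact h3.trans (le_of_eq (congrArg (fun z : ↥G.R => height (OrderDual.toDual z)) e))
  exact_mod_cast h1.trans h2

include eU in
/-- `R` is equidimensional. -/
theorem equidim : (∀ Z ∈ irreducibleComponents ↥G.R, topologicalKrullDim ↥Z = topologicalKrullDim ↥G.R) ∧
    ∀ r : G.R, FlatMor.localDim ↥G.R r = topologicalKrullDim ↥G.R := by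
  set f := G.s ≫ eU.hom
  refine ⟨fun Z hZ => ?_, fun r => le_antisymm (Groth.Agent.TopDimLib.localDim_le r) (le_iInf fun U => ?_)⟩
  · obtain ⟨ξ, hξ⟩ := QuasiSober.sober hZ.1 (isClosed_of_mem_irreducibleComponents Z hZ)
    rw [← hξ.def, VarDim.topologicalKrullDim_closure_singleton, height_eq_dim G eU ξ (isMax_of_isGenericPoint hZ hξ)]
  · obtain ⟨ξ, hξ, hξmax⟩ := exists_isMax_ge r
    obtain ⟨U, hrU⟩ := U
    have hξU : ξ ∈ U := Specializes.mem_open (show ξ ⤳ r from hξ) U.2 hrU
    let V : G.R.Opens := U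
    rw [← height_eq_dim G eU ξ hξmax, height_eq_sdim f]
    change _ ≤ topologicalKrullDim V.toScheme
    rw [dim_eq_iSup_sdim (V.ι ≫ f)]
    refine le_iSup_of_le (⟨ξ, hξU⟩ : V) ?_
    rw [sdim_comp_of_surjective f V.ι]
    exact le_rfl

end Groth.Agent.GrpdDim19
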