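import Groth.Agent.Lib.Cartier.Smooth
import Groth.Agent.Lib.Descend.BaseChangeAt
import Groth.Agent.Lib.GrpdB.Calc
import Groth.Agent.Lib.GrpdDim19.Basic
import Groth.Agent.Lib.GrpQuot.Affine

/-! # Smoothness of the source map of a groupoid scheme over a field. -/

set_option autoImplicit false
set_option linter.style.haveILetI false
set_option maxHeartbeats 4000000
set_option backward.isDefEq.respectTransparency.types false
universe u

open CategoryTheory CategoryTheory.Limits AlgebraicGeometry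

namespace Groth.Agent.GrpdSmooth19

open Groth.Agent.GrpdB

theorem mem_smoothLocus_baseChange {P X Y Y' : Scheme.{u}} {fst : P ⟶ X} {snd : P ⟶ Y'}
    {f : X ⟶ Y} {g : Y' ⟶ Y} (hP : IsPullback fst snd f g) [LocallyOfFinitePresentation f]
    [LocallyOfFinitePresentation snd] (x' : P) (h : fst x' ∈ f.smoothLocus) : x' ∈ snd.smoothLocus := by
  obtain ⟨V, hV, hsm⟩ := (Descend.smooth_nhd_iff_mem_smoothLocus f _).mpr h
  refine (Descend.smooth_nhd_iff_mem_smoothLocus snd x').mp ⟨fst ⁻¹ᵁ V, hV, ?_⟩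
  exact MorphismProperty.of_isPullback ((isPullback_morphismRestrict fst V).paste_vert hP) hsm

variable {S : Scheme.{u}} (G : Grpd.GroupoidScheme S)

/-- `(a, b) ↦ (a, b a⁻¹)`. -/
theorem exists_iso_shear :
    ∃ φ : pullback G.s G.s ⟶ pullback G.t G.s, IsIso φ ∧ φ ≫ pullback.fst G.t G.s = pullback.fst G.s G.s ∧
      φ ≫ pullback.snd G.t G.s = cmp G (pullback.snd G.s G.s) (inv' (pullback.fst G.s G.s))
        ((pullback.condition (f := G.s) (g := G.s)).symm.trans (inv_t _).symm) := by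
  set a := pullback.fst G.s G.s
  set b := pullback.snd G.s G.s
  set g := cmp G b (inv' a) ((pullback.condition (f := G.s) (g := G.s)).symm.trans (inv_t _).symm) with hg
  let φ : pullback G.s G.s ⟶ pullback G.t G.s := pullback.lift a g (by rw [hg, cmp_s, inv_s])
  set a' := pullback.fst G.t G.s
  set g' := pullback.snd G.t G.s
  let ψ : pullback G.t G.s ⟶ pullback G.s G.s :=
    pullback.lift a' (cmp G g' a' pullback.condition.symm) (cmp_s _ _ _).symm
  have h1 : φ ≫ a' = a := pullback.lift_fst _ _ _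
  have h2 : φ ≫ g' = g := pullback.lift_snd _ _ _
  have h3 : ψ ≫ a = a' := pullback.lift_fst _ _ _
  have h4 : ψ ≫ b = cmp G g' a' pullback.condition.symm := pullback.lift_snd _ _ _
  refine ⟨φ, ⟨ψ, ?_, ?_⟩, h1, h2⟩
  · apply pullback.hom_ext
    · rw [Category.assoc, h3, h1, Category.id_comp]
    · rw [Category.assoc, h4, comp_cmp, cmp_congr h2 h1, Category.id_comp]
      exact cancel_right' b a (pullback.condition (f := G.s) (g := G.s)).symm
  · apply pullback.hom_ext
    · rw [Category.assoc, h1, h3, Category.id_comp]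
    · rw [Category.assoc, h2, hg, comp_cmp, cmp_congr h4
        (show ψ ≫ inv' a = inv' a' by rw [← Category.assoc, h3]), Category.id_comp]
      exact cancel_right g' a' pullback.condition.symm

/-- Smoothness of `s` at `r` and at the identity of the target of `r` are equivalent. -/
theorem mem_smoothLocus_iff [Flat G.s] [LocallyOfFinitePresentation G.s] (r : G.R) :
    r ∈ G.s.smoothLocus ↔ G.e (G.t r) ∈ G.s.smoothLocus := by
  haveI : IsIso G.i := GrpQuot.isIso_i G
  haveI : Flat G.t := by rw [← G.i_s]; infer_instance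
  haveI : LocallyOfFinitePresentation G.t := by rw [← G.i_s]; infer_instance
  obtain ⟨φ, hφ, hφ1, hφ2⟩ := exists_iso_shear G
  let σ : G.R ⟶ pullback G.s G.s := pullback.lift (𝟙 _) (𝟙 _) rfl
  have hr1 : pullback.snd G.s G.s (σ r) = r := by rw [← Scheme.Hom.comp_apply, pullback.lift_snd]; rfl
  have he : σ ≫ φ ≫ pullback.snd G.t G.s = G.t ≫ G.e := by
    rw [hφ2, comp_cmp, cmp_congr (α' := 𝟙 G.R) (β' := inv' (𝟙 G.R)) (pullback.lift_snd _ _ _)
      (by rw [← Category.assoc, pullback.lift_fst])]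
    exact (G.comp_i (𝟙 G.R)).trans (Category.id_comp _)
  have hr2 : pullback.snd G.t G.s (φ (σ r)) = G.e (G.t r) := by
    rw [← Scheme.Hom.comp_apply, ← Scheme.Hom.comp_apply, he, Scheme.Hom.comp_apply]
  have sqA : IsPullback (pullback.snd G.s G.s) (pullback.fst G.s G.s) G.s G.s := (IsPullback.of_hasPullback _ _).flip
  have sqB : IsPullback (pullback.snd G.t G.s) (pullback.fst G.t G.s) G.s G.t := (IsPullback.of_hasPullback _ _).flip
  have key : σ r ∈ (pullback.fst G.s G.s).smoothLocus ↔ φ (σ r) ∈ (pullback.fst G.t G.s).smoothLocus := by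
    have hh := Scheme.Hom.preimage_smoothLocus_eq φ (pullback.fst G.t G.s)
    simp only [hφ1] at hh
    rw [← hh]; rfl
  constructor
  · intro h
    rw [← hr2]
    exact Descend.mem_smoothLocus_of_flat_baseChange sqB _
      (key.mp (mem_smoothLocus_baseChange sqA _ (by rwa [hr1])))
  · intro h
    rw [← hr1]
    exact Descend.mem_smoothLocus_of_flat_baseChange sqA _
      (key.mpr (mem_smoothLocus_baseChange sqB _ (by rwa [hr2])))

variable {K : Type u} [Field K] (eU : G.U ≅ Spec (CommRingCat.of K)) [LocallyOfFiniteType G.s]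

include eU in
/-- One smooth point suffices. -/
theorem smooth_of_nonempty (hne : (G.s ≫ eU.hom).smoothLocus ≠ ⊥) : Smooth G.s ∧ Smooth G.t := by
  haveI : Flat (G.s ≫ eU.hom) := inferInstance
  haveI : Flat G.s := by
    rw [show G.s = (G.s ≫ eU.hom) ≫ eU.inv by simp]; infer_instance
  haveI : LocallyOfFinitePresentation G.s := by
    haveI : LocallyOfFinitePresentation (G.s ≫ eU.hom) := inferInstance
    rw [show G.s = (G.s ≫ eU.hom) ≫ eU.inv by simp]; infer_instance
  have hiff : ∀ r : G.R, r ∈ G.s.smoothLocus ↔ r ∈ (G.s ≫ eU.hom).smoothLocus := fun r =>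
    (Descend.mem_smoothLocus_comp_iff G.s eU.hom r).symm
  obtain ⟨r₀, hr₀⟩ : ((G.s ≫ eU.hom).smoothLocus : Set G.R).Nonempty := by
    rw [Set.nonempty_iff_ne_empty]
    exact fun h => hne (TopologicalSpace.Opens.ext h)
  haveI : Subsingleton G.U := eU.hom.homeomorph.injective.subsingleton (β := PrimeSpectrum K)
  have hall : ∀ r : G.R, r ∈ G.s.smoothLocus := fun r => by
    rw [mem_smoothLocus_iff, Subsingleton.elim (G.t r) (G.t r₀), ← mem_smoothLocus_iff, hiff]
    exact hr₀
  have hs : Smooth G.s := Scheme.Hom.smoothLocus_eq_top_iff.mp (top_le_iff.mp fun r _ => hall r)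
  refine ⟨hs, ?_⟩
  haveI : IsIso G.i := GrpQuot.isIso_i G
  rw [← G.i_s]; infer_instance

include eU in
theorem smooth_of_isReduced [PerfectField K] [IsReduced G.R] : Smooth G.s ∧ Smooth G.t := by
  refine smooth_of_nonempty G eU ?_
  intro h
  obtain ⟨x, hx⟩ := (G.s ≫ eU.hom).dense_smoothLocus_of_perfectField.nonempty
    (h := ⟨(eU.inv ≫ G.e) (IsLocalRing.closedPoint K)⟩)
  rw [h] at hx
  exact hx

theorem comp_cmp_id_left {T T' : Scheme.{u}} (f : T' ⟶ T) (a b : T ⟶ G.R) (h : a ≫ G.s = b ≫ G.t)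
    (y : T' ⟶ G.R) (h2 : f ≫ a = (y ≫ G.t) ≫ G.e) (h1 : f ≫ b = y) : f ≫ cmp G a b h = y := by
  rw [comp_cmp, cmp_congr h2 h1]
  exact id_cmp' y _ (by rw [Category.assoc, G.e_s, Category.comp_id])

theorem comp_cmp_id_right {T T' : Scheme.{u}} (f : T' ⟶ T) (a b : T ⟶ G.R) (h : a ≫ G.s = b ≫ G.t)
    (y : T' ⟶ G.R) (h2 : f ≫ a = y) (h1 : f ≫ b = (y ≫ G.s) ≫ G.e) : f ≫ cmp G a b h = y := by
  rw [comp_cmp, cmp_congr h2 h1]
  exact cmp_id' y _ (by rw [Category.assoc, G.e_t, Category.comp_id])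

/-- Translating a tangent arrow at the identity by the generic arrow near the identity. -/
theorem exists_translate {k A B D : CommRingCat.{u}} (fU : G.U ⟶ Spec k) (iU : Spec k ⟶ G.U) (hU : fU ≫ iU = 𝟙 _)
    (F : Spec A ⟶ G.R) (evc : A ⟶ k) (hev : Spec.map evc ≫ F = iU ≫ G.e)
    (κ κt : k ⟶ A) (hκ : Spec.map κ = F ≫ G.s ≫ fU) (hκt : Spec.map κt = F ≫ G.t ≫ fU)
    (v : A ⟶ D) (f₀ : k ⟶ D) (hf₀v : κ ≫ v = f₀) (p₀ : D ⟶ k) (hvp : v ≫ p₀ = evc)
    (jA : A ⟶ B) (pr : B ⟶ A) (m₂ : D ⟶ B) (me : B ⟶ D) (hf₀m : f₀ ≫ m₂ = κt ≫ jA) (hjp : jA ≫ pr = 𝟙 A)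
    (hmp : m₂ ≫ pr = p₀ ≫ κt) (hjm : jA ≫ me = evc ≫ f₀) (hmm : m₂ ≫ me = 𝟙 D) :
    ∃ c : Spec B ⟶ G.R, c ≫ G.s ≫ fU = Spec.map jA ≫ Spec.map κ ∧ Spec.map pr ≫ c = F ∧
      Spec.map me ≫ c = Spec.map v ≫ F := by
  haveI : IsSplitMono fU := IsSplitMono.mk' ⟨iU, hU⟩
  have hps : (Spec.map v ≫ F) ≫ G.s ≫ fU = Spec.map f₀ := by
    rw [Category.assoc, ← hκ, ← Spec.map_comp, hf₀v]
  set p := Spec.map v ≫ F with hp
  have hqs : (Spec.map m₂ ≫ p) ≫ G.s = (Spec.map jA ≫ F) ≫ G.t := by
    rw [← cancel_mono fU]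
    simp only [Category.assoc]
    rw [hps, ← hκt, ← Spec.map_comp, ← Spec.map_comp, hf₀m]
  refine ⟨cmp G (Spec.map m₂ ≫ p) (Spec.map jA ≫ F) hqs, ?_, ?_, ?_⟩
  · rw [← Category.assoc, cmp_s, hκ]
    simp only [Category.assoc]
  · have h1 : Spec.map pr ≫ Spec.map jA ≫ F = F := by
      rw [← Category.assoc, ← Spec.map_comp, hjp, Spec.map_id, Category.id_comp]
    have h2 : Spec.map pr ≫ Spec.map m₂ ≫ p = (F ≫ G.t) ≫ G.e := by
      rw [← Category.assoc, ← Spec.map_comp, hmp, Spec.map_comp, Category.assoc, hp,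
        ← Spec.map_comp_assoc v p₀, hvp, hev, hκt]
      simp only [Category.assoc, reassoc_of% hU]
    exact comp_cmp_id_left G (Spec.map pr) _ _ hqs F h2 h1
  · have h1 : Spec.map me ≫ Spec.map jA ≫ F = (p ≫ G.s) ≫ G.e := by
      rw [← Category.assoc, ← Spec.map_comp, hjm, Spec.map_comp, Category.assoc, hev, ← hps]
      simp only [Category.assoc, reassoc_of% hU]
    have h2 : Spec.map me ≫ Spec.map m₂ ≫ p = p := by
      rw [← Category.assoc, ← Spec.map_comp, hmm, Spec.map_id, Category.id_comp]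
    exact comp_cmp_id_right G (Spec.map me) _ _ hqs p h2 h1

set_option backward.isDefEq.respectTransparency false in
/-- Differentials of the local ring at the identity are free. -/
theorem free_kaehler_stalk_e :
    letI := (Cartier.structMap (G.s ≫ eU.hom) ((eU.inv ≫ G.e) (IsLocalRing.closedPoint K))).hom.toAlgebra
    Module.Free (G.R.presheaf.stalk ((eU.inv ≫ G.e) (IsLocalRing.closedPoint K)))
      Ω[G.R.presheaf.stalk ((eU.inv ≫ G.e) (IsLocalRing.closedPoint K))⁄K] := by
  let fs := G.s ≫ eU.hom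
  let ft := G.t ≫ eU.hom
  let η : Spec (CommRingCat.of K) ⟶ G.R := eU.inv ≫ G.e
  let e : G.R := (eU.inv ≫ G.e) (IsLocalRing.closedPoint K)
  have hes : η ≫ fs = 𝟙 _ := by
    rw [Category.assoc, ← Category.assoc G.e, G.e_s, Category.id_comp, eU.inv_hom_id]
  have het : η ≫ ft = 𝟙 _ := by
    rw [Category.assoc, ← Category.assoc G.e, G.e_t, Category.id_comp, eU.inv_hom_id]
  let A := G.R.presheaf.stalk e
  let F := G.R.fromSpecStalk e
  let κ : CommRingCat.of K ⟶ A := Cartier.structMap fs e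
  let κt : CommRingCat.of K ⟶ A := Cartier.structMap ft e
  have hκ : Spec.map κ = F ≫ fs := Spec.map_preimage _
  have hκt : Spec.map κt = F ≫ ft := Spec.map_preimage _
  letI : Algebra K A := κ.hom.toAlgebra
  haveI : Algebra.EssFiniteType K A := Cartier.essFiniteType_structMap fs e
  haveI : IsNoetherianRing A := Algebra.EssFiniteType.isNoetherianRing K A
  let evc : A ⟶ CommRingCat.of K := Scheme.stalkClosedPointTo η
  have hev : Spec.map evc ≫ F = η := Scheme.Spec_stalkClosedPointTo_fromSpecStalk _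
  have hκev : κ ≫ evc = 𝟙 _ := by
    apply Spec.map_injective
    rw [Spec.map_comp, hκ, Spec.map_id, reassoc_of% hev]
    exact hes
  have hκtev : κt ≫ evc = 𝟙 _ := by
    apply Spec.map_injective
    rw [Spec.map_comp, hκt, Spec.map_id, reassoc_of% hev]
    exact het
  let ev : A →ₐ[K] K := { evc.hom with commutes' := fun c => congr($hκev c) }
  have hker : RingHom.ker (ev : A →+* K) = IsLocalRing.maximalIdeal A := by
    refine (IsLocalRing.eq_maximalIdeal ?_)
    exact RingHom.ker_isMaximal_of_surjective _ fun c => ⟨κ c, congr($hκev c)⟩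
  refine Cartier.free_kaehler_of_extends K A ev hker fun l hl => ?_
  haveI : IsLocalRing (DualNumber A) := Cartier.isLocalRing_dualNumber A
  have hl1 : l 1 = 0 := by have := hl 1 1; simpa using this
  let v : A ⟶ CommRingCat.of (DualNumber K) :=
    CommRingCat.ofHom (Cartier.dualOfDer (ev : A →+* K) l.toAddMonoidHom hl1 hl)
  let f₀ : CommRingCat.of K ⟶ CommRingCat.of (DualNumber K) := CommRingCat.ofHom (TrivSqZeroExt.inlHom K K)
  let jA : A ⟶ CommRingCat.of (DualNumber A) := CommRingCat.ofHom (TrivSqZeroExt.inlHom A A)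
  let pr : CommRingCat.of (DualNumber A) ⟶ A := CommRingCat.ofHom (TrivSqZeroExt.fstHom A A A).toRingHom
  let p₀ : CommRingCat.of (DualNumber K) ⟶ CommRingCat.of K := CommRingCat.ofHom (TrivSqZeroExt.fstHom K K K).toRingHom
  let m₂ : CommRingCat.of (DualNumber K) ⟶ CommRingCat.of (DualNumber A) := CommRingCat.ofHom (Cartier.dualMap κt.hom)
  let me : CommRingCat.of (DualNumber A) ⟶ CommRingCat.of (DualNumber K) :=
    CommRingCat.ofHom (Cartier.dualMap (ev : A →+* K))
  have hf₀v : κ ≫ v = f₀ := by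
    ext c
    · show (TrivSqZeroExt.inl (ev (κ c)) + TrivSqZeroExt.inr (l (κ c)) : DualNumber K).fst = _
      simp [f₀, show ev (κ c) = c from congr($hκev c)]
    · show (TrivSqZeroExt.inl (ev (κ c)) + TrivSqZeroExt.inr (l (κ c)) : DualNumber K).snd = _
      have : κ c = c • (1 : A) := by rw [Algebra.smul_def, _root_.mul_one]; rfl
      simp [f₀, this, hl1]
  have hf₀m : f₀ ≫ m₂ = κt ≫ jA := by ext c <;> simp [f₀, m₂, jA, Cartier.dualMap]
  have hjp : jA ≫ pr = 𝟙 A := by ext x; simp [jA, pr]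
  have hmp : m₂ ≫ pr = p₀ ≫ κt := by
    refine CommRingCat.hom_ext (RingHom.ext fun x => ?_)
    simp [m₂, pr, p₀, Cartier.dualMap]
    try rfl
  have hvp : v ≫ p₀ = evc := by
    ext x; simp [v, p₀, Cartier.dualOfDer]; rfl
  have hjm : jA ≫ me = evc ≫ f₀ := by ext x <;> simp [jA, me, f₀, Cartier.dualMap] <;> rfl
  have hmm : m₂ ≫ me = 𝟙 _ := by
    refine CommRingCat.hom_ext (RingHom.ext fun x => ?_)
    simp [m₂, me, Cartier.dualMap, show ∀ c, ev (κt c) = c from fun c => congr($hκtev c)]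
    exact TrivSqZeroExt.ext (by simp) (by simp)
  -- test points
  obtain ⟨c, hcs, hzc, hwc⟩ := exists_translate G eU.hom eU.inv eU.hom_inv_id F evc hev κ κt hκ hκt v f₀ hf₀v
    p₀ hvp jA pr m₂ me hf₀m hjp hmp hjm hmm
  have hpt : c (IsLocalRing.closedPoint (CommRingCat.of (DualNumber A))) = e := by
    have h := congr($hzc (IsLocalRing.closedPoint A))
    rw [Scheme.Hom.comp_apply] at h
    have hz : Spec.map pr (IsLocalRing.closedPoint A) = IsLocalRing.closedPoint (DualNumber A) := by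
      haveI : IsLocalHom pr.hom := ⟨fun x hx => TrivSqZeroExt.isUnit_iff_isUnit_fst.2 hx⟩
      exact Spec_closedPoint (f := pr)
    rw [hz] at h
    exact h.trans Scheme.fromSpecStalk_closedPoint
  obtain ⟨φ, hφ⟩ := Cartier.exists_factor (R := CommRingCat.of (DualNumber A)) c e hpt
  have hκφ : κ ≫ φ = κ ≫ jA := by
    apply Spec.map_injective
    rw [Spec.map_comp, Spec.map_comp, ← hcs, hκ, ← Category.assoc, hφ]
  have hφ1 : φ ≫ pr = 𝟙 A := by
    apply Cartier.eq_of_fromSpecStalk
    rw [Spec.map_comp, Category.assoc, hφ, Spec.map_id, Category.id_comp]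
    exact hzc
  have hφ2 : φ ≫ me = v := by
    apply Cartier.eq_of_fromSpecStalk
    rw [Spec.map_comp, Category.assoc, hφ]
    exact hwc
  have hfst : ∀ x, (φ x).fst = x := fun x => congr($hφ1 x)
  let DL : A →ₗ[K] A :=
    { toFun := fun x => (φ x).snd
      map_add' := fun x y => by rw [map_add]; rfl
      map_smul' := fun r x => by
        rw [RingHom.id_apply, Algebra.smul_def, Algebra.smul_def, map_mul]
        have hc : φ (algebraMap K A r) = jA (κ r) := congr($hκφ r)
        rw [hc]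
        simp [jA]; rfl }
  refine ⟨Derivation.mk' DL fun x y => ?_, fun x => ?_⟩
  · show (φ (x * y)).snd = x * (φ y).snd + y * (φ x).snd
    rw [map_mul]
    simp [hfst, mul_comm]
  · show ev (φ x).snd = l x
    have := congr(TrivSqZeroExt.snd ($hφ2 x))
    simp [me, v, Cartier.dualMap, Cartier.dualOfDer] at this
    exact this

include eU in
theorem smooth_of_charZero [CharZero K] : Smooth G.s ∧ Smooth G.t := by
  refine smooth_of_nonempty G eU ?_
  let e : G.R := (eU.inv ≫ G.e) (IsLocalRing.closedPoint K)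
  let A := G.R.presheaf.stalk e
  letI : Algebra K A := (Cartier.structMap (G.s ≫ eU.hom) e).hom.toAlgebra
  haveI : Algebra.EssFiniteType K A := Cartier.essFiniteType_structMap _ e
  haveI : IsNoetherianRing A := Algebra.EssFiniteType.isNoetherianRing K A
  haveI : Module.Free A Ω[A⁄K] := free_kaehler_stalk_e G eU
  obtain ⟨p, hp⟩ := (Ideal.nonempty_minimalPrimes (I := (⊥ : Ideal A)) bot_ne_top)
  haveI hpp : p.IsPrime := hp.1.1
  let q : Spec A := ⟨p, hpp⟩
  let Aq := Localization.AtPrime p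
  haveI : Algebra.FormallyEtale A Aq := Algebra.FormallyEtale.of_isLocalization p.primeCompl
  haveI : Module.Free Aq Ω[Aq⁄K] :=
    Module.Free.of_equiv (KaehlerDifferential.tensorKaehlerEquivOfFormallyEtale K A Aq)
  haveI : Algebra.EssFiniteType A Aq := Algebra.EssFiniteType.of_isLocalization _ p.primeCompl
  haveI : Algebra.EssFiniteType K Aq := Algebra.EssFiniteType.comp K A Aq
  have hnil : IsNilpotent (IsLocalRing.maximalIdeal Aq) := by
    haveI : IsNoetherianRing Aq := IsLocalization.isNoetherianRing p.primeCompl Aq inferInstance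
    haveI : Ring.KrullDimLE 0 Aq := .of_isLocalization p hp _
    rw [← Ring.KrullDimLE.nilradical_eq_maximalIdeal]
    exact IsNoetherianRing.isNilpotent_nilradical Aq
  have hfield : IsField Aq := Cartier.isField_of_free_kaehler K Aq hnil
  -- the corresponding point of the scheme
  obtain ⟨U, hU, heU, -⟩ := exists_isAffineOpen_mem_and_subset (X := G.R) (x := e) (U := ⊤) trivial
  letI : Algebra Γ(G.R, U) A := TopCat.Presheaf.algebra_section_stalk G.R.presheaf (⟨e, heU⟩ : U)
  haveI : IsLocalization.AtPrime A (hU.primeIdealOf ⟨e, heU⟩).asIdeal := hU.isLocalization_stalk ⟨e, heU⟩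
  let P : PrimeSpectrum Γ(G.R, U) := ⟨p.comap (algebraMap Γ(G.R, U) A), inferInstance⟩
  haveI : IsLocalization.AtPrime Aq P.asIdeal :=
    IsLocalization.isLocalization_isLocalization_atPrime_isLocalization
      (hU.primeIdealOf ⟨e, heU⟩).asIdeal.primeCompl Aq p
  have hy : hU.fromSpec P ∈ U := hU.range_fromSpec.le ⟨P, rfl⟩
  letI : Algebra Γ(G.R, U) (G.R.presheaf.stalk (hU.fromSpec P)) :=
    TopCat.Presheaf.algebra_section_stalk G.R.presheaf (⟨hU.fromSpec P, hy⟩ : U)
  haveI : IsLocalization.AtPrime (G.R.presheaf.stalk (hU.fromSpec P)) P.asIdeal :=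
    hU.isLocalization_stalk' P hy
  let ψ : G.R.presheaf.stalk (hU.fromSpec P) ≃+* Aq :=
    (IsLocalization.algEquiv P.asIdeal.primeCompl _ _).toRingEquiv
  intro h
  have hmem := Cartier.mem_smoothLocus_of_isField_stalk (G.s ≫ eU.hom) (hU.fromSpec P) (ψ.toMulEquiv.isField hfield)
  rw [h] at hmem
  exact hmem

end Groth.Agent.GrpdSmooth19
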