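import Groth.Agent.Lib.GrpdB.Calc
import Groth.Agent.Lib.GrpdDim19.Equidim
import Groth.Agent.Lib.GeomIrr18.Scheme
import Groth.Agent.Lib.GrpQuot.Affine
import Mathlib.FieldTheory.IsAlgClosed.AlgebraicClosure
import Mathlib.AlgebraicGeometry.Morphisms.ClosedImmersion

/-! # Local irreducibility of a groupoid scheme over a field. -/

set_option autoImplicit false
set_option linter.style.haveILetI false
set_option backward.isDefEq.respectTransparency.types false
universe u

open CategoryTheory CategoryTheory.Limits AlgebraicGeometry Topology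

namespace Groth.Agent.GrpdIrr19

open Groth.Agent.GrpdB Groth.Agent.GrpdDim19

/-- Only one generic point specialises to `x`. -/
def UniqueMax {X : Scheme.{u}} (x : X) : Prop :=
  ∀ a b : X, IsMax a → IsMax b → a ⤳ x → b ⤳ x → a = b

theorem uniqueMax_map {X Y : Scheme.{u}} (g : X ⟶ Y) [Flat g] {x : X} (h : UniqueMax x) : UniqueMax (g x) := by
  intro a b ha hb hax hbx
  have key : ∀ a : Y, IsMax a → a ⤳ g x → ∃ a' : X, IsMax a' ∧ a' ⤳ x ∧ g a' = a := by
    intro a ha hax
    obtain ⟨a₀, ha₀, hga₀⟩ := Flat.generalizingMap g hax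
    obtain ⟨a', hle, hmax⟩ := exists_isMax_ge a₀
    have hs : g a' ⤳ a := hga₀ ▸ (show a' ⤳ a₀ from hle).map g.continuous
    exact ⟨a', hmax, (show a' ⤳ a₀ from hle).trans ha₀, (Specializes.antisymm hs (ha hs)).eq⟩
  obtain ⟨a', ha', hax', rfl⟩ := key a ha hax
  obtain ⟨b', hb', hbx', rfl⟩ := key b hb hbx
  rw [h a' b' ha' hb' hax' hbx']

theorem exists_section_lift {K : Type u} [Field K] {Z X : Scheme.{u}} (ι : Z ⟶ X) [IsClosedImmersion ι]
    (σ : Spec (CommRingCat.of K) ⟶ X) (h : σ (IsLocalRing.closedPoint K) ∈ Set.range ι) :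
    ∃ ε : Spec (CommRingCat.of K) ⟶ Z, ε ≫ ι = σ := by
  haveI : Surjective (pullback.snd ι σ) := ⟨fun x => by
    obtain ⟨z, hz⟩ := h
    obtain ⟨p, -, hp⟩ := Scheme.Pullback.exists_preimage_pullback z x
      (by rw [hz]; exact congrArg σ (Subsingleton.elim (α := PrimeSpectrum K) _ _))
    exact ⟨p, hp⟩⟩
  haveI := isIso_of_isClosedImmersion_of_surjective (pullback.snd ι σ)
  exact ⟨inv (pullback.snd ι σ) ≫ pullback.fst ι σ, by rw [Category.assoc, pullback.condition, IsIso.inv_hom_id_assoc]⟩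

/-- The reduced closed subscheme on the closure of a point, with a section through a given point. -/
theorem exists_integral_through {K : Type u} [Field K] {X : Scheme.{u}}
    (σ : Spec (CommRingCat.of K) ⟶ X) (η : X) (h : η ⤳ σ (IsLocalRing.closedPoint K)) :
    ∃ (Z : Scheme.{u}) (ι : Z ⟶ X) (ε : Spec (CommRingCat.of K) ⟶ Z),
      IsClosedImmersion ι ∧ IrreducibleSpace Z ∧ η ∈ Set.range ι ∧ ε ≫ ι = σ := by
  let I := Scheme.IdealSheafData.vanishingIdeal (X := X) ⟨closure {η}, isClosed_closure⟩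
  have hr : Set.range I.subschemeι = closure {η} := by
    rw [Scheme.IdealSheafData.range_subschemeι]
    exact Scheme.IdealSheafData.coe_support_vanishingIdeal _
  obtain ⟨ε, hε⟩ := exists_section_lift I.subschemeι σ (hr.symm ▸ h.mem_closure)
  refine ⟨I.subscheme, I.subschemeι, ε, inferInstance, ?_, hr.symm ▸ subset_closure rfl, hε⟩
  have hirr : IsIrreducible (Set.univ : Set I.subscheme) := by
    obtain ⟨z, hz⟩ : η ∈ Set.range I.subschemeι := hr.symm ▸ subset_closure rfl
    have : (Set.univ : Set I.subscheme) = closure {z} := by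
      rw [I.subschemeι.isEmbedding.isInducing.closure_eq_preimage_closure_image, Set.image_singleton, hz, ← hr,
        Set.preimage_range]
    rw [this]
    exact isIrreducible_singleton.closure
  exact (irreducibleSpace_def _).mpr hirr

variable {S : Scheme.{u}} (G : Grpd.GroupoidScheme S) {K : Type u} [Field K] [IsAlgClosed K]
  (b : Spec (CommRingCat.of K) ⟶ G.U) [Flat b]

omit [IsAlgClosed K] in
theorem comp_cmp_id_left {T T' : Scheme.{u}} (f : T' ⟶ T) (a b : T ⟶ G.R) (h : a ≫ G.s = b ≫ G.t)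
    (y : T' ⟶ G.R) (h2 : f ≫ a = (y ≫ G.t) ≫ G.e) (h1 : f ≫ b = y) : f ≫ cmp G a b h = y := by
  rw [comp_cmp, cmp_congr h2 h1]
  exact id_cmp' y _ (by rw [Category.assoc, G.e_s, Category.comp_id])

omit [IsAlgClosed K] in
theorem comp_cmp_id_right {T T' : Scheme.{u}} (f : T' ⟶ T) (a b : T ⟶ G.R) (h : a ≫ G.s = b ≫ G.t)
    (y : T' ⟶ G.R) (h2 : f ≫ a = y) (h1 : f ≫ b = (y ≫ G.s) ≫ G.e) : f ≫ cmp G a b h = y := by
  rw [comp_cmp, cmp_congr h2 h1]
  exact cmp_id' y _ (by rw [Category.assoc, G.e_t, Category.comp_id])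

/-- The identity of a geometric point, among the arrows out of it. -/
noncomputable def idPt : Spec (CommRingCat.of K) ⟶ pullback G.s b :=
  pullback.lift (b ≫ G.e) (𝟙 _) (by rw [Category.assoc, G.e_s, Category.comp_id, Category.id_comp])

theorem uniqueMax_idPt : UniqueMax (idPt G b (IsLocalRing.closedPoint K)) := by
  set P := pullback (pullback.fst G.s b ≫ G.t) b
  let σ : Spec (CommRingCat.of K) ⟶ P := pullback.lift (idPt G b) (𝟙 _) (by
    rw [← Category.assoc, idPt, pullback.lift_fst, Category.assoc, G.e_t, Category.comp_id, Category.id_comp])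
  have hσ : pullback.fst (pullback.fst G.s b ≫ G.t) b (σ (IsLocalRing.closedPoint K)) =
      idPt G b (IsLocalRing.closedPoint K) := by
    rw [← Scheme.Hom.comp_apply, pullback.lift_fst]
  rw [← hσ]
  refine uniqueMax_map _ ?_
  intro η₁ η₂ hη₁ hη₂ h₁ h₂
  let a : P ⟶ G.R := pullback.fst _ _ ≫ pullback.fst G.s b
  let v : P ⟶ Spec (CommRingCat.of K) := pullback.fst _ _ ≫ pullback.snd G.s b
  let w : P ⟶ Spec (CommRingCat.of K) := pullback.snd _ _
  have has : a ≫ G.s = v ≫ b := by simp only [a, v, Category.assoc, pullback.condition]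
  have hat : a ≫ G.t = w ≫ b := by
    rw [Category.assoc]; exact pullback.condition
  have hσa : σ ≫ a = b ≫ G.e := by
    rw [← Category.assoc, pullback.lift_fst, idPt, pullback.lift_fst]
  have hσv : σ ≫ v = 𝟙 _ := by rw [← Category.assoc, pullback.lift_fst, idPt, pullback.lift_snd]
  have hσw : σ ≫ w = 𝟙 _ := pullback.lift_snd _ _ _
  have hav : a = pullback.fst (pullback.fst G.s b ≫ G.t) b ≫ pullback.fst G.s b := rfl
  have hvv : v = pullback.fst (pullback.fst G.s b ≫ G.t) b ≫ pullback.snd G.s b := rfl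
  have hwv : w = pullback.snd (pullback.fst G.s b ≫ G.t) b := rfl
  clear_value a v w
  obtain ⟨Z₁, ι₁, ε₁, _, _, hm₁, he₁⟩ := exists_integral_through σ η₁ h₁
  obtain ⟨Z₂, ι₂, ε₂, _, _, hm₂, he₂⟩ := exists_integral_through σ η₂ h₂
  haveI := GeomIrr.geometricallyIrreducible_of_isSepClosed (ι₂ ≫ w)
  haveI : UniversallyOpen (ι₂ ≫ w) := inferInstance
  let W := pullback (ι₁ ≫ v) (ι₂ ≫ w)
  haveI : IrreducibleSpace W := inferInstance
  let p₁ : W ⟶ P := pullback.fst _ _ ≫ ι₁
  let p₂ : W ⟶ P := pullback.snd _ _ ≫ ι₂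
  have hp : p₁ ≫ v = p₂ ≫ w := by simp only [p₁, p₂, Category.assoc, pullback.condition]
  have hp₁ : p₁ = pullback.fst (ι₁ ≫ v) (ι₂ ≫ w) ≫ ι₁ := rfl
  have hp₂ : p₂ = pullback.snd (ι₁ ≫ v) (ι₂ ≫ w) ≫ ι₂ := rfl
  clear_value p₁ p₂
  have hc : (p₁ ≫ a) ≫ G.s = (p₂ ≫ a) ≫ G.t := by
    rw [Category.assoc, Category.assoc, has, hat, ← Category.assoc, ← Category.assoc, hp]
  let μ : W ⟶ P := pullback.lift
    (pullback.lift (cmp G (p₁ ≫ a) (p₂ ≫ a) hc) (p₂ ≫ v) (by rw [cmp_s, Category.assoc, has, Category.assoc]))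
    (p₁ ≫ w)
    (by rw [← Category.assoc, pullback.lift_fst, cmp_t, Category.assoc, hat, Category.assoc])
  -- the two components are in the image
  have main : ∀ (Z : Scheme.{u}) (ι : Z ⟶ P) (s : Z ⟶ W), s ≫ μ = ι → Set.range ι ⊆ closure (Set.range μ) := by
    rintro Z ι s rfl _ ⟨z, rfl⟩
    exact subset_closure ⟨s z, (Scheme.Hom.comp_apply s μ z).symm⟩
  have hT₁ : η₁ ∈ closure (Set.range μ) := by
    let s : Z₁ ⟶ W := pullback.lift (𝟙 _) ((ι₁ ≫ v) ≫ ε₂)
      (by rw [Category.id_comp, Category.assoc, ← Category.assoc ε₂, he₂, hσw, Category.comp_id])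
    refine main Z₁ ι₁ s ?_ hm₁
    have e1 : s ≫ p₁ = ι₁ := by rw [hp₁, ← Category.assoc, pullback.lift_fst, Category.id_comp]
    have e2 : s ≫ p₂ = (ι₁ ≫ v) ≫ σ := by rw [hp₂, ← Category.assoc, pullback.lift_snd, Category.assoc, he₂]
    apply pullback.hom_ext
    · apply pullback.hom_ext
      · rw [Category.assoc, Category.assoc, pullback.lift_fst_assoc, pullback.lift_fst, Category.assoc, ← hav]
        refine comp_cmp_id_right G s _ _ hc (ι₁ ≫ a) (by rw [← Category.assoc, e1]) ?_
        rw [← Category.assoc, e2, Category.assoc, hσa, Category.assoc ι₁ a, has]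
        simp only [Category.assoc]
      · rw [Category.assoc, Category.assoc, pullback.lift_fst_assoc, pullback.lift_snd, Category.assoc, ← hvv, ← Category.assoc, e2,
          Category.assoc, hσv, Category.comp_id]
    · rw [Category.assoc, pullback.lift_snd, ← hwv, ← Category.assoc, e1]
  have hT₂ : η₂ ∈ closure (Set.range μ) := by
    let s : Z₂ ⟶ W := pullback.lift ((ι₂ ≫ w) ≫ ε₁) (𝟙 _)
      (by rw [Category.id_comp, Category.assoc, ← Category.assoc ε₁, he₁, hσv, Category.comp_id])
    refine main Z₂ ι₂ s ?_ hm₂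
    have e1 : s ≫ p₁ = (ι₂ ≫ w) ≫ σ := by rw [hp₁, ← Category.assoc, pullback.lift_fst, Category.assoc, he₁]
    have e2 : s ≫ p₂ = ι₂ := by rw [hp₂, ← Category.assoc, pullback.lift_snd, Category.id_comp]
    apply pullback.hom_ext
    · apply pullback.hom_ext
      · rw [Category.assoc, Category.assoc, pullback.lift_fst_assoc, pullback.lift_fst, Category.assoc, ← hav]
        refine comp_cmp_id_left G s _ _ hc (ι₂ ≫ a) ?_ (by rw [← Category.assoc, e2])
        rw [← Category.assoc, e1, Category.assoc, hσa, Category.assoc ι₂ a, hat]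
        simp only [Category.assoc]
      · rw [Category.assoc, Category.assoc, pullback.lift_fst_assoc, pullback.lift_snd, Category.assoc, ← hvv, ← Category.assoc, e2]
    · rw [Category.assoc, pullback.lift_snd, ← hwv, ← Category.assoc, e1, Category.assoc, hσw, Category.comp_id]
  have hirr : IsIrreducible (closure (Set.range μ)) := by
    rw [← Set.image_univ]
    exact ((IrreducibleSpace.isIrreducible_univ W).image μ μ.continuous.continuousOn).closure
  obtain ⟨g, hg⟩ := QuasiSober.sober hirr isClosed_closure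
  have hg₁ := hg.specializes hT₁
  have hg₂ := hg.specializes hT₂
  exact ((Specializes.antisymm hg₁ (hη₁ hg₁)).eq.symm).trans (Specializes.antisymm hg₂ (hη₂ hg₂)).eq

end Groth.Agent.GrpdIrr19

namespace Groth.Agent.GrpdIrr19

open Groth.Agent.GrpdB Groth.Agent.GrpdDim19

variable {S : Scheme.{u}} (G : Grpd.GroupoidScheme S) {k : Type u} [Field k] (eU : G.U ≅ Spec (CommRingCat.of k))

include eU in
theorem flat_of_field {X : Scheme.{u}} (q : X ⟶ G.U) : Flat q := by
  rw [show q = (q ≫ eU.hom) ≫ eU.inv by simp]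
  haveI : Flat (q ≫ eU.hom) := inferInstance
  infer_instance

include eU in
/-- Every local ring has a single minimal prime. -/
theorem uniqueMax_point (r : G.R) : UniqueMax r := by
  let π : Spec (CommRingCat.of (AlgebraicClosure (G.R.residueField r))) ⟶ Spec (G.R.residueField r) :=
    Spec.map (CommRingCat.ofHom (algebraMap (G.R.residueField r) (AlgebraicClosure (G.R.residueField r))))
  let ρ := π ≫ G.R.fromSpecResidueField r
  have hr : ρ (IsLocalRing.closedPoint (AlgebraicClosure (G.R.residueField r))) = r := by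
    change (π ≫ G.R.fromSpecResidueField r) _ = r
    rw [Scheme.Hom.comp_apply, Scheme.fromSpecResidueField_apply]
  clear_value ρ
  haveI : Flat (ρ ≫ G.t) := flat_of_field G eU _
  haveI : Flat (ρ ≫ G.s) := flat_of_field G eU _
  set q := pullback.snd G.s (ρ ≫ G.t)
  set q' := pullback.snd G.s (ρ ≫ G.s)
  have hb : pullback.fst G.s (ρ ≫ G.t) ≫ G.s = (q ≫ ρ) ≫ G.t := by rw [pullback.condition, Category.assoc]
  let φ : pullback G.s (ρ ≫ G.t) ⟶ pullback G.s (ρ ≫ G.s) :=
    pullback.lift (cmp G (pullback.fst _ _) (q ≫ ρ) hb) q (by rw [cmp_s, Category.assoc])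
  have ha : pullback.fst G.s (ρ ≫ G.s) ≫ G.s = inv' (q' ≫ ρ) ≫ G.t := by
    rw [inv_t, Category.assoc, pullback.condition]
  let ψ : pullback G.s (ρ ≫ G.s) ⟶ pullback G.s (ρ ≫ G.t) :=
    pullback.lift (cmp G (pullback.fst _ _) (inv' (q' ≫ ρ)) ha) q' (by rw [cmp_s, inv_s, Category.assoc])
  have h1 : φ ≫ q' = q := pullback.lift_snd _ _ _
  have h2 : φ ≫ pullback.fst _ _ = cmp G (pullback.fst _ _) (q ≫ ρ) hb := pullback.lift_fst _ _ _
  have h3 : ψ ≫ q = q' := pullback.lift_snd _ _ _
  have h4 : ψ ≫ pullback.fst _ _ = cmp G (pullback.fst _ _) (inv' (q' ≫ ρ)) ha := pullback.lift_fst _ _ _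
  haveI : IsIso φ := ⟨ψ, by
    apply pullback.hom_ext
    · rw [Category.assoc, h4, comp_cmp, Category.id_comp,
        cmp_congr h2 (show φ ≫ inv' (q' ≫ ρ) = inv' (q ≫ ρ) by simp only [inv', ← Category.assoc, h1])]
      exact cancel_right _ _ hb
    · rw [Category.assoc, h3, h1, Category.id_comp], by
    apply pullback.hom_ext
    · rw [Category.assoc, h2, comp_cmp, Category.id_comp,
        cmp_congr h4 (show ψ ≫ q ≫ ρ = q' ≫ ρ by rw [← Category.assoc, h3])]
      exact cancel_right' _ _ (pullback.condition.trans (Category.assoc _ _ _).symm)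
    · rw [Category.assoc, h1, h3, Category.id_comp]⟩
  have h := uniqueMax_idPt G (ρ ≫ G.t)
  have e : idPt G (ρ ≫ G.t) ≫ φ ≫ pullback.fst G.s (ρ ≫ G.s) = ρ := by
    rw [h2]
    exact comp_cmp_id_left G _ _ _ hb ρ (by rw [idPt, pullback.lift_fst])
      (by rw [← Category.assoc, idPt, pullback.lift_snd, Category.id_comp])
  rw [← hr, ← e, Scheme.Hom.comp_apply, Scheme.Hom.comp_apply]
  exact uniqueMax_map _ (uniqueMax_map φ h)

include eU in
theorem minimalPrimes_subsingleton (r : G.R) : (minimalPrimes (G.R.presheaf.stalk r)).Subsingleton := by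
  intro p hp q hq
  have key : ∀ p (hp : p ∈ minimalPrimes (G.R.presheaf.stalk r)), IsMax (G.R.fromSpecStalk r ⟨p, hp.1.1⟩) ∧
      G.R.fromSpecStalk r ⟨p, hp.1.1⟩ ⤳ r := by
    intro p hp
    have hs : G.R.fromSpecStalk r ⟨p, hp.1.1⟩ ⤳ r := Scheme.range_fromSpecStalk.le ⟨_, rfl⟩
    refine ⟨fun v hv => ?_, hs⟩
    obtain ⟨P, rfl⟩ := Scheme.range_fromSpecStalk.ge (show v ⤳ r from (show v ⤳ _ from hv).trans hs)
    have hsp : (show PrimeSpectrum (G.R.presheaf.stalk r) from P) ⤳ ⟨p, hp.1.1⟩ :=
      (G.R.fromSpecStalk r).isEmbedding.isInducing.specializes_iff.mp hv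
    have hle : P.asIdeal ≤ p := (PrimeSpectrum.le_iff_specializes _ _).mpr hsp
    have hE : P = (⟨p, hp.1.1⟩ : PrimeSpectrum (G.R.presheaf.stalk r)) :=
      PrimeSpectrum.ext (le_antisymm hle (hp.2 ⟨P.isPrime, bot_le⟩ hle))
    subst hE
    exact specializes_rfl
  obtain ⟨hp1, hp2⟩ := key p hp
  obtain ⟨hq1, hq2⟩ := key q hq
  have h := uniqueMax_point G eU r _ _ hp1 hq1 hp2 hq2
  exact congrArg PrimeSpectrum.asIdeal ((G.R.fromSpecStalk r).isEmbedding.injective h)

include eU in
theorem existsUnique_component (x : G.R) :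
    ∃! Z : Set G.R, Z ∈ irreducibleComponents (G.R : Type u) ∧ x ∈ Z := by
  refine ⟨irreducibleComponent x, ⟨irreducibleComponent_mem_irreducibleComponents x, mem_irreducibleComponent⟩, ?_⟩
  rintro Z ⟨hZ, hxZ⟩
  obtain ⟨a, ha⟩ := QuasiSober.sober hZ.1 (isClosed_of_mem_irreducibleComponents Z hZ)
  obtain ⟨b, hb⟩ := QuasiSober.sober (isIrreducible_irreducibleComponent (x := x)) isClosed_irreducibleComponent
  have := uniqueMax_point G eU x a b (isMax_of_isGenericPoint hZ ha)
    (isMax_of_isGenericPoint (irreducibleComponent_mem_irreducibleComponents x) hb)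
    (ha.specializes hxZ) (hb.specializes mem_irreducibleComponent)
  rw [← ha.def, ← hb.def, this]

include eU in
/-- The component through `e` is geometrically irreducible over the field via `s`. -/
theorem geometricallyIrreducible_s {Z : Scheme.{u}} (ι : Z ⟶ G.R) [IsClosedImmersion ι] [IrreducibleSpace Z]
    (hZ : Set.range ι ∈ irreducibleComponents G.R)
    (he : G.e (eU.inv (IsLocalRing.closedPoint k)) ∈ Set.range ι) :
    GeometricallyIrreducible (ι ≫ G.s ≫ eU.hom) := by
  set f := ι ≫ G.s ≫ eU.hom with hf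
  set π := Spec.map (CommRingCat.ofHom (algebraMap k (AlgebraicClosure k))) with hπ
  suffices IrreducibleSpace ↥(pullback f π) from GeomIrr.geometricallyIrreducible_of_bc f (AlgebraicClosure k)
  set b := π ≫ eU.inv with hb
  haveI : Flat b := flat_of_field G eU b
  haveI : IsIntegralHom π := by
    rw [hπ, IsIntegralHom.SpecMap_iff, CommRingCat.hom_ofHom]
    exact fun x => Algebra.IsIntegral.isIntegral x
  haveI : Flat π := inferInstance
  set g := pullback.fst f π
  let j : pullback f π ⟶ pullback G.s b := pullback.lift (g ≫ ι) (pullback.snd f π) (by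
    rw [← cancel_mono eU.hom, hb, Category.assoc, Category.assoc, ← hf, pullback.condition, Category.assoc,
      Category.assoc, eU.inv_hom_id, Category.comp_id])
  have hj : IsPullback j g (pullback.fst G.s b) ι := by
    have hbig : IsPullback (j ≫ pullback.snd G.s b) g b (ι ≫ G.s) := by
      rw [pullback.lift_snd]
      refine IsPullback.of_iso (IsPullback.of_hasPullback f π).flip (Iso.refl _) (Iso.refl _) (Iso.refl _) eU.symm
        ?_ ?_ ?_ ?_ <;> simp [hb, hf, g]
    exact IsPullback.of_right hbig (pullback.lift_fst _ _ _) (IsPullback.of_hasPullback G.s b).flip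
  haveI : IsClosedImmersion j := MorphismProperty.of_isPullback hj.flip inferInstance
  -- the point over the identity
  obtain ⟨ε, hε⟩ := exists_section_lift ι (eU.inv ≫ G.e) (by rwa [Scheme.Hom.comp_apply])
  have hεf : ε ≫ f = 𝟙 _ := by
    rw [hf, ← Category.assoc, hε, Category.assoc, ← Category.assoc G.e, G.e_s, Category.id_comp, eU.inv_hom_id]
  let σ : Spec (CommRingCat.of (AlgebraicClosure k)) ⟶ pullback f π :=
    pullback.lift (π ≫ ε) (𝟙 _) (by rw [Category.assoc, hεf, Category.comp_id, Category.id_comp])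
  have hσ : IsPullback σ π g ε := by
    refine IsPullback.of_right ?_ (pullback.lift_fst _ _ _) (IsPullback.of_hasPullback f π).flip
    rw [pullback.lift_snd, hεf]
    exact IsPullback.of_horiz_isIso ⟨by simp⟩
  set z₀ := σ (IsLocalRing.closedPoint (AlgebraicClosure k))
  have hfib : ∀ z, g z = ε (IsLocalRing.closedPoint k) → z = z₀ := by
    intro z hz
    obtain ⟨p, hp1, -⟩ := Scheme.Pullback.exists_preimage_pullback (f := g) (g := ε) z _ hz
    have : σ (hσ.isoPullback.inv p) = z := by
      rw [← Scheme.Hom.comp_apply, hσ.isoPullback_inv_fst]; exact hp1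
    rw [← this]
    exact congrArg σ (Subsingleton.elim (α := PrimeSpectrum (AlgebraicClosure k)) _ _)
  obtain ⟨ξ, hξ⟩ := QuasiSober.sober (IrreducibleSpace.isIrreducible_univ Z) isClosed_univ
  have hξmax : IsMax ξ := fun v _ => hξ.specializes (Set.mem_univ v)
  have hgen : ∀ η : (pullback f π : Scheme.{u}), IsMax η → g η = ξ := by
    intro η hη
    obtain ⟨η', hη'η, hη'⟩ := Flat.generalizingMap g (hξ.specializes (Set.mem_univ (g η)) : ξ ⤳ g η)
    rw [← hη', (Specializes.antisymm hη'η (hη hη'η)).eq]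
  have hthru : ∀ η : (pullback f π : Scheme.{u}), IsMax η → η ⤳ z₀ := by
    intro η hη
    have hc : IsClosed (g '' closure {η}) := g.isClosedMap _ isClosed_closure
    have hin : ε (IsLocalRing.closedPoint k) ∈ g '' closure {η} :=
      (hξ.specializes (Set.mem_univ _)).mem_closed hc ⟨η, subset_closure rfl, hgen η hη⟩
    obtain ⟨z, hz, hgz⟩ := hin
    rw [← hfib z hgz]
    exact specializes_iff_mem_closure.mpr hz
  have hjmax : ∀ η : (pullback f π : Scheme.{u}), IsMax η → IsMax (j η) := by
    intro η hη w hw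
    have hξR : IsMax (ι ξ) := by
      refine isMax_of_isGenericPoint hZ ?_
      have h := hξ.image ι.continuous
      rwa [Set.image_univ, ι.isClosedEmbedding.isClosed_range.closure_eq] at h
    have h1 : pullback.fst G.s b w ⤳ pullback.fst G.s b (j η) :=
      (show w ⤳ j η from hw).map (pullback.fst G.s b).continuous
    rw [← Scheme.Hom.comp_apply j, pullback.lift_fst, Scheme.Hom.comp_apply, hgen η hη] at h1
    obtain ⟨w', hw', -⟩ : ∃ w', j w' = w ∧ True := by
      obtain ⟨p, hp1, -⟩ := Scheme.Pullback.exists_preimage_pullback (f := pullback.fst G.s b) (g := ι) w ξ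
        (Specializes.antisymm h1 (hξR h1)).eq
      exact ⟨hj.isoPullback.inv p, by rw [← Scheme.Hom.comp_apply, hj.isoPullback_inv_fst]; exact hp1, trivial⟩
    subst hw'
    have h2 : w' ⤳ η := j.isEmbedding.isInducing.specializes_iff.mp hw
    exact (hη h2 : η ⤳ w').map j.continuous
  have hz₀ : j z₀ = idPt G b (IsLocalRing.closedPoint _) := by
    have : σ ≫ j = idPt G b := by
      apply pullback.hom_ext
      · rw [Category.assoc, pullback.lift_fst, ← Category.assoc, pullback.lift_fst, Category.assoc, hε, idPt,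
          pullback.lift_fst, hb, Category.assoc]
      · rw [Category.assoc, pullback.lift_snd, pullback.lift_snd, idPt, pullback.lift_snd]
    rw [← this, Scheme.Hom.comp_apply]
  obtain ⟨η₀, -, hη₀⟩ := exists_isMax_ge z₀
  have huniq : ∀ η : (pullback f π : Scheme.{u}), IsMax η → η = η₀ := fun η hη =>
    j.isEmbedding.injective (uniqueMax_idPt G b _ _ (hjmax η hη) (hjmax η₀ hη₀)
      (hz₀ ▸ (hthru η hη).map j.continuous) (hz₀ ▸ (hthru η₀ hη₀).map j.continuous))
  refine (irreducibleSpace_def _).mpr ?_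
  have hu : (Set.univ : Set (pullback f π : Scheme.{u})) = closure {η₀} := by
    refine (Set.eq_univ_of_forall fun z => ?_).symm
    obtain ⟨η, hle, hmax⟩ := exists_isMax_ge z
    exact (huniq η hmax ▸ (show η ⤳ z from hle)).mem_closure
  change IsIrreducible (Set.univ : Set (pullback f π : Scheme.{u}))
  rw [hu]
  exact isIrreducible_singleton.closure

theorem i_e : G.e ≫ G.i = G.e := by
  have h := G.comp_i G.e
  have h1 : pullback.lift G.e (G.e ≫ G.i) (by rw [Category.assoc, G.i_t]) ≫ G.c = G.e ≫ G.i := by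
    have h2 := id_cmp' (G.e ≫ G.i) (𝟙 G.U) (by rw [Category.id_comp, Category.assoc, G.i_t])
    refine Eq.trans ?_ h2
    exact cmp_congr (Category.id_comp _).symm rfl _
  rw [h1] at h
  exact h.trans ((Category.assoc _ _ _).symm.trans (by rw [G.e_t, Category.id_comp]))

include eU in
theorem geometricallyIrreducible_st {Z : Scheme.{u}} (ι : Z ⟶ G.R) [IsClosedImmersion ι] [IrreducibleSpace Z]
    (hZ : Set.range ι ∈ irreducibleComponents G.R)
    (he : G.e (eU.inv (IsLocalRing.closedPoint k)) ∈ Set.range ι) :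
    GeometricallyIrreducible (ι ≫ G.s ≫ eU.hom) ∧ GeometricallyIrreducible (ι ≫ G.t ≫ eU.hom) := by
  refine ⟨geometricallyIrreducible_s G eU ι hZ he, ?_⟩
  haveI : IsIso G.i := GrpQuot.isIso_i G
  obtain ⟨z, hz⟩ := he
  have he' : G.e (eU.inv (IsLocalRing.closedPoint k)) ∈ Set.range (ι ≫ G.i) :=
    ⟨z, by rw [Scheme.Hom.comp_apply, hz, ← Scheme.Hom.comp_apply G.e, i_e]⟩
  have hrange : Set.range (ι ≫ G.i) = G.i.homeomorph '' Set.range ι := by
    simp [Set.range_comp]
  have hZ' : Set.range (ι ≫ G.i) ∈ irreducibleComponents G.R := by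
    rw [hrange]
    exact image_mem_irreducibleComponents_of_isPreirreducible_fiber _ G.i.homeomorph.continuous
      G.i.homeomorph.isOpenMap
      (fun x => (Set.subsingleton_singleton.preimage G.i.homeomorph.injective).isPreirreducible)
      G.i.homeomorph.surjective hZ
  have h := geometricallyIrreducible_s G eU (ι ≫ G.i) hZ' he'
  rwa [Category.assoc, ← Category.assoc G.i, G.i_s] at h

end Groth.Agent.GrpdIrr19
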